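import Cfsg.Agent.Lib.ChevSimple.Exists
import Cfsg.Agent.Lib.ModRep.RegBasis
import Mathlib.GroupTheory.FiniteAbelian.Duality
import Mathlib.RingTheory.RootsOfUnity.AlgebraicallyClosed
import Cfsg.Agent.EqLemmas

/-!
# The number of simple representations in the defining characteristic

`card_simpleTraces` : simple representations correspond to admissible data; `card_data` : there are
`q ^ l` admissible data for a split torus; `card_regClass` : hence `q ^ l` regular classes.
-/

set_option autoImplicit false
set_option linter.unusedSectionVars false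
set_option linter.style.haveILetI false

namespace Cfsg.Agent.ChevSimple

open Cfsg.Agent.RGD Cfsg.Agent.RGD.RootData Representation ModRep

/-- Admissible data. -/
def Data {Γ : Type*} [Group Γ] {Φ I : Type*} (R : RootData Γ Φ I) (K : I → Subgroup Γ)
    (k : Type*) [Field k] : Type _ :=
  {x : (R.H →* kˣ) × Set I // ∀ i ∈ x.2, Triv x.1 (K i)}

section bij

variable {Γ : Type*} [Group Γ] [Finite Γ] {Φ I : Type*} {R : RootData Γ Φ I} {p : ℕ} [Fact p.Prime]
  {l₀ : List I} {K : I → Subgroup Γ} (X : Hyp R p l₀ K) {k : Type*} [Field k] [CharP k p] [IsAlgClosed k]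

/-- Simple representations with the same trace are isomorphic. -/
lemma equiv_of_trace_eq {n m : ℕ} (ρ : Representation k Γ (Fin n → k)) (σ : Representation k Γ (Fin m → k))
    (hρ : ρ.IsIrreducible) (hσ : σ.IsIrreducible)
    (h : ∀ g, LinearMap.trace k _ (ρ g) = LinearMap.trace k _ (σ g)) :
    ∃ e : (Fin n → k) ≃ₗ[k] (Fin m → k), ∀ g x, e (ρ g x) = σ g (e x) := by
  by_contra hne
  let N : Bool → ℕ := fun b => cond b n m
  let τ : ∀ b, Representation k Γ (Fin (N b) → k) := fun b =>
    match b with
    | true => ρ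
    | false => σ
  have hempty : IsEmpty (ρ.Equiv σ) := ⟨fun e => hne ⟨e.toLinearEquiv, fun g x =>
    LinearMap.congr_fun (e.toIntertwiningMap.isIntertwining' g) x⟩⟩
  have hempty' : IsEmpty (σ.Equiv ρ) := ⟨fun e => hempty.false e.symm⟩
  have hli := linearIndependent_trace (fun b => Fin (N b) → k) τ
    (fun b => by cases b; exacts [hσ, hρ])
    (fun a b hab => by cases a <;> cases b <;> first | exact absurd rfl hab | exact hempty | exact hempty')
  have := hli.injective (a₁ := true) (a₂ := false) (funext fun g => h g)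
  exact Bool.noConfusion this

include X

/-- Simple traces correspond to admissible data. -/
theorem card_simpleTraces : Nat.card (simpleTraces k Γ) = Nat.card (Data R K k) := by
  classical
  have hex : ∀ x : Data R K k, ∃ (n : ℕ) (ρ : Representation k Γ (Fin n → k)) (v : Fin n → k),
      ρ.IsIrreducible ∧ v ≠ 0 ∧ Eig R ρ x.1.1 x.1.2 v := fun x => exists_irr X x.1.1 x.2
  choose n ρ v hirr hv he using hex
  refine (Nat.card_congr (Equiv.ofBijective
    (fun x : Data R K k => (⟨_, mem_simpleTraces (ρ x) (hirr x)⟩ : simpleTraces k Γ)) ⟨?_, ?_⟩)).symm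
  · intro x y h
    have ht : ∀ g, LinearMap.trace k _ (ρ x g) = LinearMap.trace k _ (ρ y g) := fun g =>
      congrFun (congrArg Subtype.val h) g
    obtain ⟨e, hee⟩ := equiv_of_trace_eq (ρ x) (ρ y) (hirr x) (hirr y) ht
    obtain ⟨h1, h2⟩ := data_unique X (irr_of_isIrreducible (hirr y)) (v := e (v x)) (v' := v y)
      (fun h0 => hv x (e.map_eq_zero_iff.1 h0)) (hv y) ((he x).map e.toLinearMap hee) (he y)
    exact Subtype.ext (Prod.ext h1 h2)
  · rintro ⟨f, m, σ, hσ, hf⟩
    haveI := (irr_of_isIrreducible hσ).1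
    obtain ⟨lam, J, hJ, w, hw, hew⟩ := exists_eig X σ
    let x : Data R K k := ⟨(lam, J), hJ⟩
    obtain ⟨e, hee⟩ := equiv_of_eig X (irr_of_isIrreducible (hirr x)) (irr_of_isIrreducible hσ)
      (hv x) hw (he x) hew
    refine ⟨x, Subtype.ext (funext fun g => ?_)⟩
    show LinearMap.trace k _ (ρ x g) = f g
    rw [hf, ← LinearMap.trace_conj' (ρ x g) e]
    congr 1
    refine LinearMap.ext fun y => ?_
    rw [LinearEquiv.conj_apply_apply, hee, LinearEquiv.apply_symm_apply]

end bij

section count

variable {Γ : Type*} [Group Γ] {Φ I : Type*} [Fintype I] [DecidableEq I] (R : RootData Γ Φ I)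
  (K : I → Subgroup Γ) {A : Type*} [CommGroup A] [Finite A]

/-- The number of admissible data of a split torus. -/
theorem card_data (c : (I → A) →* Γ) (hinj : Function.Injective c) (hrange : c.range = R.H)
    (hK : ∀ i, K i = (c.comp (MonoidHom.mulSingle (fun _ => A) i)).range)
    (k : Type*) [Field k] [HasEnoughRootsOfUnity k (Monoid.exponent A)] :
    Nat.card (Data R K k) = (Nat.card A + 1) ^ Fintype.card I := by
  classical
  let e : (I → A) ≃* R.H := (MonoidHom.ofInjective hinj).trans (MulEquiv.subgroupCongr hrange)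
  have he : ∀ x, ((e x : R.H) : Γ) = c x := fun x => rfl
  have hT : ∀ (lam : R.H →* kˣ) i, Triv lam (K i) ↔ (lam.comp e.toMonoidHom).comp (MonoidHom.mulSingle (fun _ => A) i) = 1 := by
    intro lam i
    simp only [Triv, hK, MonoidHom.mem_range, forall_exists_index, forall_apply_eq_imp_iff,
      MonoidHom.comp_apply]
    rw [MonoidHom.ext_iff]
    refine forall_congr' fun a => ?_
    have h : c (MonoidHom.mulSingle (fun _ => A) i a) ∈ R.H := hrange ▸ ⟨_, rfl⟩
    rw [lamx_of_mem lam h, Units.val_eq_one, MonoidHom.one_apply]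
    exact Iff.rfl
  let ψ : (R.H →* kˣ) ≃ (I → (A →* kˣ)) :=
    { toFun := fun lam i => (lam.comp e.toMonoidHom).comp (MonoidHom.mulSingle (fun _ => A) i)
      invFun := fun χ => (∏ i, (χ i).comp (Pi.evalMonoidHom (fun _ => A) i)).comp e.symm.toMonoidHom
      left_inv := fun lam => MonoidHom.ext fun h => by
        obtain ⟨x, rfl⟩ := e.surjective h
        simp only [MonoidHom.comp_apply, MulEquiv.coe_toMonoidHom, MulEquiv.symm_apply_apply,
          MonoidHom.finsetProd_apply, Pi.evalMonoidHom_apply]
        show ∏ i, (lam.comp e.toMonoidHom) (Pi.mulSingle i (x i)) = (lam.comp e.toMonoidHom) x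
        rw [← map_prod, Finset.univ_prod_mulSingle]
      right_inv := fun χ => funext fun i => MonoidHom.ext fun a => by
        simp only [MonoidHom.comp_apply, MulEquiv.coe_toMonoidHom, MulEquiv.symm_apply_apply,
          MonoidHom.finsetProd_apply, Pi.evalMonoidHom_apply, MonoidHom.mulSingle_apply]
        rw [Finset.prod_eq_single i]
        · rw [Pi.mulSingle_eq_same]
        · intro j _ hj; rw [Pi.mulSingle_eq_of_ne hj, map_one]
        · simp }
  have hψ : ∀ lam i, Triv lam (K i) ↔ ψ lam i = 1 := hT
  let E : Data R K k ≃ (I → Option (A →* kˣ)) :=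
    { toFun := fun x i => if i ∈ x.1.2 then none else some (ψ x.1.1 i)
      invFun := fun o => ⟨(ψ.symm fun i => (o i).getD 1, {i | o i = none}), fun i hi => (hψ _ i).2 (by
        rw [Equiv.apply_symm_apply, show o i = none from hi]
        rfl)⟩
      left_inv := fun ⟨⟨lam, J⟩, hJ⟩ => Subtype.ext (Prod.ext (ψ.symm_apply_eq.2 (funext fun i => by
          show (if i ∈ J then none else some (ψ lam i)).getD 1 = ψ lam i
          split_ifs with hi
          · exact ((hψ lam i).1 (hJ i hi)).symm
          · rfl)) (Set.ext fun i => by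
          show (if i ∈ J then none else some (ψ lam i)) = none ↔ i ∈ J
          split_ifs with hi <;> simp [hi]))
      right_inv := fun o => funext fun i => by
        simp only [Equiv.apply_symm_apply, Set.mem_setOf_eq]
        cases h : o i <;> simp [h] }
  haveI : Finite (A →* kˣ) :=
    Nat.finite_of_card_ne_zero (by rw [CommGroup.card_monoidHom_of_hasEnoughRootsOfUnity]; exact Nat.card_pos.ne')
  rw [Nat.card_congr E, Nat.card_fun, Finite.card_option, CommGroup.card_monoidHom_of_hasEnoughRootsOfUnity,
    Nat.card_eq_fintype_card (α := I)]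

end count

/-- The regular classes of a group with such root group data. -/
theorem card_regClass {Γ : Type*} [Group Γ] [Finite Γ] {Φ I : Type*} [Fintype I] [DecidableEq I]
    {R : RootData Γ Φ I} {p : ℕ} [Fact p.Prime] {l₀ : List I} {K : I → Subgroup Γ} (X : Hyp R p l₀ K)
    {A : Type*} [CommGroup A] [Finite A] (c : (I → A) →* Γ) (hinj : Function.Injective c)
    (hrange : c.range = R.H) (hK : ∀ i, K i = (c.comp (MonoidHom.mulSingle (fun _ => A) i)).range)
    (hA : ¬ p ∣ Nat.card A) :
    Nat.card {C : ConjClasses Γ // ∃ g, ConjClasses.mk g = C ∧ ¬ p ∣ orderOf g} =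
      (Nat.card A + 1) ^ Fintype.card I := by
  classical
  let k := AlgebraicClosure (ZMod p)
  haveI : CharP k p := charP_of_injective_algebraMap (algebraMap (ZMod p) k).injective p
  haveI : NeZero ((Monoid.exponent A : ℕ) : ZMod p) :=
    ⟨fun h => hA (((CharP.cast_eq_zero_iff (ZMod p) p _).1 h).trans Group.exponent_dvd_nat_card)⟩
  have hcls : ∀ C : ConjClasses Γ, (∃ g, ConjClasses.mk g = C ∧ ¬ p ∣ orderOf g) ↔ ¬ p ∣ orderOf (Quotient.out C) := by
    intro C
    refine ⟨?_, fun h => ⟨Quotient.out C, Quotient.out_eq C, h⟩⟩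
    rintro ⟨g, rfl, hg⟩
    obtain ⟨a, ha⟩ := isConj_iff.1 (ConjClasses.mk_eq_mk_iff_isConj.1 (Quotient.out_eq (ConjClasses.mk g)).symm)
    rwa [← ha, SecondMain.orderOf_conj]
  obtain ⟨b, -⟩ := ModRep.exists_basis (k := k) (G := Γ) (p := p)
  haveI : Fintype (RegClass p Γ) := Fintype.ofFinite _
  rw [Nat.card_congr (Equiv.subtypeEquivRight hcls), ← card_data R K c hinj hrange hK k,
    ← card_simpleTraces X, ← Module.finrank_eq_nat_card_basis b, Module.finrank_pi, ← Nat.card_eq_fintype_card]
  rfl

end Cfsg.Agent.ChevSimple
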