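import Cfsg.Agent.Lib.ChevSimple.Restrict
import Cfsg.Agent.Lib.ChevSimple.Count
import Cfsg.Agent.Lib.ChevBlocks.Blocks
import Cfsg.Agent.Lib.ChevOrder.CardH
import Cfsg.Agent.EqLemmas

/-!
# The regular classes of the simply connected adjoint Chevalley groups

`card_regClass_chev` : if the torus map is injective then `D.group F` has `q ^ l` classes of elements
of order prime to the characteristic.
-/

set_option autoImplicit false
set_option linter.unusedSectionVars false
set_option linter.style.haveILetI false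

namespace Cfsg.Agent.ChevSimple

open Cfsg Cfsg.Lie Cfsg.Lie.ChevalleyDatum Cfsg.Agent.Chev Cfsg.Agent.ChevSt Cfsg.Agent.ChevBN
open Cfsg.Agent.RGD Cfsg.Agent.RGD.RootData

variable {D : ChevalleyDatum} {M : List (List ℤ)} {d : ℤ} {F : Type*} [Field F] (hD : Good D) (hR : Roots D M d)

local notation "RR" => chevRGD hD hR F

include hD hR

theorem U_le (r : Fin D.nroots) : (RR).U r ≤ D.group F := fun g hg' => by
  obtain ⟨t, rfl⟩ := (mem_rootSubgroup hD _).1 hg'
  exact xg_mem_group hD _ _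

theorem H_le : (RR).H ≤ D.group F :=
  (le_sup_right : D.diagonalSubgroup F ≤ D.borelSubgroup F).trans (borel_le_group hD hR)

theorem n_mem (i : Fin D.rank) : (RR).n i ∈ D.group F := by
  rw [← chev_G hD hR]
  exact (RR).N_le_G ((RR).n_mem_N i)

variable (F) in
/-- The root group data inside `D.group F`. -/
noncomputable def groupRGD : RootData ↥(D.group F) (Fin D.nroots) (Fin D.rank) :=
  restrict RR (D.group F) (U_le hD hR) (H_le hD hR) (n_mem hD hR)

theorem torus_mem (c : Fin D.rank → Fˣ) : ChevOrder.torusHom D F c ∈ D.diagonalSubgroup F := by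
  rw [← ChevOrder.torusHom_range hD]; exact ⟨c, rfl⟩

theorem K_le (i : Fin D.rank) : ChevBlocks.K (D := D) (F := F) i ≤ (RR).H := by
  rintro _ ⟨s, rfl⟩
  exact torus_mem hD hR _

theorem n_sq_mem (i : Fin D.rank) : (RR).n i * (RR).n i ∈ ChevBlocks.K (D := D) (F := F) i := by
  have h : hg hD F (D.simple i) (-1) ∈ ChevBlocks.K (D := D) (F := F) i :=
    ⟨_, (ChevBlocks.hg_eq_torus hD hR i (neg_ne_zero.2 one_ne_zero)).symm⟩
  convert inv_mem h using 1
  show ng hD F (D.simple i) 1 * ng hD F (D.simple i) 1 = _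
  rw [hg, mul_inv_rev, ng_inv, _root_.neg_neg]

theorem n_comm_mem (i : Fin D.rank) {h : GL D.Idx F} (hh : h ∈ (RR).H) :
    (RR).n i * h * ((RR).n i)⁻¹ * h⁻¹ ∈ ChevBlocks.K (D := D) (F := F) i := by
  set n := (RR).n i with hn
  set Ki := ChevBlocks.K (D := D) (F := F) i with hKi
  have hKH := K_le hD hR (F := F) i
  change h ∈ D.diagonalSubgroup F at hh
  induction hh using Subgroup.closure_induction with
  | mem x hx =>
    obtain ⟨r, t, hr, ht, e⟩ := hx
    obtain rfl : x = hg hD F r t := Units.ext (e.trans (coe_hg hD r t).symm)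
    set a := D.simple i.val
    have ha : a < D.nroots := hD.simple_lt i.val i.isLt
    set s : F := t ^ D.pairing r a
    have hs : s ≠ 0 := zpow_ne_zero _ ht
    have hneg : D.pairing r (D.neg a) = -D.pairing r a := by
      rw [Chev.pairing_eq_sum, Chev.pairing_eq_sum, ← Finset.sum_neg_distrib]
      refine Finset.sum_congr rfl fun k _ => ?_
      rw [hD.cartan_neg a ha k.val k.isLt]
      ring
    have h1 : hg hD F r t * n * (hg hD F r t)⁻¹ = ng hD F a s := by
      have hx : ∀ q u, hg hD F r t * xg hD F q u * (hg hD F r t)⁻¹ = xg hD F q (t ^ D.pairing r q * u) :=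
        fun q u => by rw [hg_conj hD hr ht, mul_inv_cancel_right]
      rw [show hg hD F r t * n * (hg hD F r t)⁻¹ =
        (hg hD F r t * xg hD F a 1 * (hg hD F r t)⁻¹) * (hg hD F r t * xg hD F (D.neg a) (-(1 : F)⁻¹) * (hg hD F r t)⁻¹)
          * (hg hD F r t * xg hD F a 1 * (hg hD F r t)⁻¹) by
        rw [hn, show (RR).n i = xg hD F a 1 * xg hD F (D.neg a) (-(1 : F)⁻¹) * xg hD F a 1 from rfl]; group,
        hx, hx, hneg, _root_.zpow_neg, inv_one, mul_neg_one, mul_one]
      rfl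
    have h2 : hg hD F a s ∈ Ki := ⟨_, (ChevBlocks.hg_eq_torus hD hR i hs).symm⟩
    convert inv_mem (mul_mem h2 (inv_mem (show hg hD F a 1 ∈ Ki from
      ⟨_, (ChevBlocks.hg_eq_torus hD hR i one_ne_zero).symm⟩))) using 1
    rw [show n * hg hD F r t * n⁻¹ * (hg hD F r t)⁻¹ = n * (hg hD F r t * n * (hg hD F r t)⁻¹)⁻¹ by group, h1,
      hg, hg]
    show ng hD F a 1 * _ = _
    group
  | one => simp
  | mul x y hx hy ihx ihy =>
    have h1 : n * y * n⁻¹ * y⁻¹ ∈ (RR).H :=
      mul_mem ((RR).n_conj_H i y hy) (inv_mem (show y ∈ (RR).H from hy))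
    convert mul_mem ihx ihy using 1
    calc n * (x * y) * n⁻¹ * (x * y)⁻¹ = n * x * n⁻¹ * ((n * y * n⁻¹ * y⁻¹) * x⁻¹) := by group
      _ = n * x * n⁻¹ * (x⁻¹ * (n * y * n⁻¹ * y⁻¹)) := by
        rw [diag_commute hD h1 (inv_mem hx)]
      _ = _ := by group
  | inv x hx ih =>
    convert inv_mem ih using 1
    calc n * x⁻¹ * n⁻¹ * x⁻¹⁻¹ = (n * x * n⁻¹)⁻¹ * x := by group
      _ = x * (n * x * n⁻¹)⁻¹ := diag_commute hD (inv_mem ((RR).n_conj_H i x hx)) hx
      _ = _ := by group

theorem conjn_mem (i j : Fin D.rank) (u : List (Fin D.rank))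
    (e : (RR).ww u ((RR).simple j) = (RR).simple i) :
    (RR).nw u * (RR).n j * ((RR).nw u)⁻¹ * ((RR).n i)⁻¹ ∈ ChevBlocks.K (D := D) (F := F) i := by
  let R := RR
  have key : ∀ u : List (Fin D.rank), ∃ σ : F, (σ = 1 ∨ σ = -1) ∧
      R.nw u * R.n j * (R.nw u)⁻¹ = ng hD F (R.ww u (R.simple j)).val σ := by
    intro u
    induction u with
    | nil => exact ⟨1, Or.inl rfl, by simp; rfl⟩
    | cons a u ih =>
      obtain ⟨σ, hσ, e⟩ := ih
      refine ⟨(nSign D (D.simple a.val) (R.ww u (R.simple j)).val : F) * σ, ?_, ?_⟩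
      · rcases (nSign_cases hD (hD.simple_lt a.val a.isLt) (R.ww u (R.simple j)).isLt).1 with h | h <;>
          rcases hσ with rfl | rfl <;> simp [h]
      · rw [R.nw_cons, show R.n a * R.nw u * R.n j * (R.n a * R.nw u)⁻¹ =
          R.n a * (R.nw u * R.n j * (R.nw u)⁻¹) * (R.n a)⁻¹ by group, e]
        exact ng_conj_ng hD hR a.isLt (R.ww u (R.simple j)).isLt σ
  obtain ⟨σ, hσ, h⟩ := key u
  rw [h, e]
  show ng hD F (D.simple i.val) σ * (ng hD F (D.simple i.val) 1)⁻¹ ∈ _
  rcases hσ with rfl | rfl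
  · rw [mul_inv_cancel]; exact one_mem _
  · rw [ng_inv]
    exact ⟨_, (ChevBlocks.hg_eq_torus hD hR i (neg_ne_zero.2 one_ne_zero)).symm⟩

theorem supp_pos (i : Fin D.rank) (m : List (Fin D.rank)) (hm : i ∉ m) :
    (RR).pos ((RR).ww m ((RR).simple i)) := by
  let R := RR
  have key : ∀ m : List (Fin D.rank), i ∉ m → co D M i.val (R.ww m (R.simple i)).val = d := by
    intro m
    induction m with
    | nil =>
      intro _
      show co D M i.val (D.simple i.val) = d
      rw [hR.dual _ i.isLt _ i.isLt, if_pos rfl]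
    | cons a m ih =>
      intro hm
      rw [List.mem_cons, not_or] at hm
      show co D M i.val (wN D a.val (R.ww m (R.simple i)).val) = d
      rw [hR.co_refl hD a.isLt (R.ww m (R.simple i)).isLt i.isLt, ih hm.2,
        if_neg fun h => hm.1 (Fin.ext h), sub_zero]
  by_contra h
  have h1 := hR.nonpos_of_not_pos hD (R.ww m (R.simple i)).isLt h i.isLt
  rw [key m hm] at h1
  exact absurd hR.d_pos (not_lt.2 h1)

theorem opp_simple {l₀ : List (Fin D.rank)}
    (hl₀ : ∀ r, (RR).pos r → ¬ (RR).pos ((RR).ww l₀ r)) (i : Fin D.rank) :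
    ∃ j, (RR).ww l₀ ((RR).simple j) = (RR).neg ((RR).simple i) := by
  let R := RR
  have hinj : ∀ {r s}, R.ww l₀ r = R.ww l₀ s → r = s := fun {r s} h => by
    rw [← R.ww_reverse_ww l₀ r, h, R.ww_reverse_ww]
  set β := R.ww l₀.reverse (R.neg (R.simple i)) with hβdef
  have hβ : R.ww l₀ β = R.neg (R.simple i) := R.ww_ww_reverse l₀ _
  by_cases hpos : R.pos β
  swap
  · exfalso
    have h1 := hl₀ _ ((R.pos_neg β).2 hpos)
    rw [R.ww_neg, hβ, R.neg_neg] at h1
    exact h1 (R.pos_simple i)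
  by_contra hne
  push Not at hne
  have hall : ∀ j, ¬ R.pos (R.ww ([i] ++ l₀) (R.simple j)) := fun j hj => by
    rw [R.ww_append, R.ww_cons, R.ww_nil] at hj
    have h1 : R.pos (R.neg (R.ww l₀ (R.simple j))) := (R.pos_neg _).2 (hl₀ _ (R.pos_simple j))
    have h2 := R.w_pos i _ h1 fun e => hne j (by
      have h3 := congrArg R.neg e
      rwa [R.neg_neg] at h3)
    rw [R.w_neg, R.pos_neg] at h2
    exact h2 hj
  obtain ⟨g, hg, e⟩ := lin_comp hD hR F ([i] ++ l₀) (isLin_ht hD M)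
  have h1 := lin_neg hD hR hg (fun j hj => by
    rw [e ⟨D.simple j, hD.simple_lt j hj⟩]
    have h3 := hR.ht_pos _ (hD.neg_lt _ (R.ww ([i] ++ l₀) (R.simple ⟨j, hj⟩)).isLt)
      ((pos_or_neg hD (R.ww ([i] ++ l₀) _).isLt).2 (hall ⟨j, hj⟩))
    rw [(isLin_ht hD M).neg _ (R.ww ([i] ++ l₀) _).isLt] at h3
    exact neg_pos.1 h3) β.isLt hpos
  rw [e β, show R.ww ([i] ++ l₀) β = R.simple i by
    rw [R.ww_append, hβ, R.ww_cons, R.ww_nil, R.w_neg, R.w_simple, R.neg_neg]] at h1
  exact absurd (hR.ht_pos _ (R.simple i).isLt (R.pos_simple i)) (not_lt.2 h1.le)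

variable [Finite F] {p : ℕ} [Fact p.Prime] [CharP F p]

/-- The hypotheses hold for `D.group F`. -/
theorem exists_hyp : ∃ l₀, Hyp (groupRGD F hD hR) p l₀
    fun i => (ChevBlocks.K (D := D) (F := F) i).subgroupOf (D.group F) := by
  classical
  obtain ⟨l₀, hl₀⟩ := exists_long hD hR (F := F)
  let R := RR
  let R' := groupRGD F hD hR
  have hnw : ∀ l, ((R'.nw l : ↥(D.group F)) : GL D.Idx F) = R.nw l := coe_nw _ _ _ _ _
  refine ⟨l₀,
    { gen := restrict_G_eq_top _ _ _ _ _ (chev_G hD hR)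
      pgroup := ?_
      regH := ?_
      commH := fun h hh k hk => Subtype.ext (diag_commute hD hh hk)
      long := hl₀
      opp := opp_simple hD hR hl₀
      K_le := fun i x hx => K_le hD hR i hx
      rank := fun i => ?_
      sq := fun i => n_sq_mem hD hR i
      comm := fun i h hh => n_comm_mem hD hR i hh
      supp := fun i m hm => supp_pos hD hR (F := F) i m hm
      conjn := fun i j u e => ?_ }⟩
  · refine (ChevBlocks.isPGroup_U hD hR (F := F) (p := p)).of_equiv (MulEquiv.symm ?_)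
    refine (Subgroup.equivMapOfInjective _ _ (D.group F).subtype_injective).trans (MulEquiv.subgroupCongr ?_)
    exact (map_Upos _ _ _ _ _).trans (chev_Upos hD hR)
  · show ¬ p ∣ Nat.card ((D.diagonalSubgroup F).subgroupOf (D.group F))
    rw [Nat.card_congr (Subgroup.subgroupOfEquivOfLe (show D.diagonalSubgroup F ≤ D.group F from H_le hD hR)).toEquiv]
    exact ChevBlocks.not_dvd_card_H hD
  · obtain ⟨η, h1, h2⟩ := ChevBlocks.rankTorus_strong hD hR (F := F) i
    have hη : ∀ a : ↥(D.group F), (a : GL D.Idx F) ∈ R.U (R.simple i) → a ≠ 1 → η a ∈ D.group F :=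
      fun a ha ha1 => H_le hD hR (K_le hD hR i (h1 a ha fun e => ha1 (Subtype.ext e)).1)
    obtain ⟨η', hη'⟩ : ∃ η' : ↥(D.group F) → ↥(D.group F), ∀ a : ↥(D.group F),
        (a : GL D.Idx F) ∈ R.U (R.simple i) → a ≠ 1 → (η' a : GL D.Idx F) = η a :=
      ⟨fun a => if h : η a ∈ D.group F then ⟨η a, h⟩ else 1, fun a ha ha1 => by
        simp only [dif_pos (hη a ha ha1)]⟩
    refine ⟨η', fun a ha ha1 => ?_, fun c hc => ?_⟩
    · obtain ⟨hK', y, hy, z, hz, e⟩ := h1 a ha fun e => ha1 (Subtype.ext e)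
      refine ⟨Subgroup.mem_subgroupOf.2 ((hη' a ha ha1).symm ▸ hK'),
        ⟨y, U_le hD hR _ hy⟩, hy, ⟨z, U_le hD hR _ hz⟩, hz, Subtype.ext ?_⟩
      simp only [Subgroup.coe_mul, Subgroup.coe_inv, hη' a ha ha1]
      exact e
    · obtain ⟨π, hπ1, hπ⟩ := h2 c hc
      let φ : R'.U (R'.simple i) ≃ R.U (R.simple i) :=
        { toFun := fun a => ⟨((a : ↥(D.group F)) : GL D.Idx F), a.2⟩
          invFun := fun a => ⟨⟨a, U_le hD hR _ a.2⟩, a.2⟩
          left_inv := fun _ => rfl
          right_inv := fun _ => rfl }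
      refine ⟨φ.trans (π.trans φ.symm), ?_, fun a ha => Subtype.ext ?_⟩
      · show φ.symm (π (φ 1)) = 1
        rw [show φ 1 = 1 from rfl, hπ1]
        rfl
      · have hne : φ a ≠ 1 := fun e => ha (φ.injective (e.trans (rfl : (1 : R.U (R.simple i)) = φ 1)))
        have hne' : φ.symm (π (φ a)) ≠ 1 := fun e => hne (π.injective (by
          rw [hπ1, ← φ.apply_symm_apply (π (φ a)), e]; rfl))
        rw [Subgroup.coe_mul, hη' _ a.2 fun e => ha (Subtype.ext e), Equiv.trans_apply, Equiv.trans_apply,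
          hη' _ (φ.symm (π (φ a))).2 fun e => hne' (Subtype.ext e)]
        exact hπ (φ a) hne
  · rw [Subgroup.mem_subgroupOf]
    show ((R'.nw u : ↥(D.group F)) : GL D.Idx F) * R.n j * ((R'.nw u : ↥(D.group F)) : GL D.Idx F)⁻¹ * (R.n i)⁻¹ ∈ _
    rw [hnw]
    exact conjn_mem hD hR (F := F) i j u e

/-- The classes of elements of order prime to `p`. -/
theorem card_regClass_chev [Fintype F] (hinj : (ChevOrder.torusHom D F).ker = ⊥) :
    Nat.card {c : ConjClasses ↥(D.group F) // ∃ g, ConjClasses.mk g = c ∧ ¬ p ∣ orderOf g} =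
      Fintype.card F ^ D.rank := by
  classical
  obtain ⟨l₀, X⟩ := exists_hyp hD hR (F := F) (p := p)
  let c : (Fin D.rank → Fˣ) →* ↥(D.group F) :=
    (ChevOrder.torusHom D F).codRestrict (D.group F) fun x => H_le hD hR (torus_mem hD hR x)
  have hc : ∀ x, (c x : GL D.Idx F) = ChevOrder.torusHom D F x := fun x => rfl
  have hA : Nat.card Fˣ + 1 = Fintype.card F := by
    rw [Nat.card_eq_fintype_card, Fintype.card_units, Nat.sub_add_cancel Fintype.card_pos]
  have hpA : ¬ p ∣ Nat.card Fˣ := fun h => by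
    obtain ⟨n, hp', hn⟩ := FiniteField.card F p
    have h2 : p ∣ Fintype.card F := hn ▸ dvd_pow_self p n.ne_zero
    rw [← hA] at h2
    exact hp'.one_lt.ne' (Nat.dvd_one.1 ((Nat.dvd_add_right h).1 h2))
  rw [card_regClass X c (fun x y e => (MonoidHom.ker_eq_bot_iff _).1 hinj (congrArg Subtype.val e)) ?_ ?_ hpA,
    hA, Fintype.card_fin]
  · refine le_antisymm ?_ fun x hx => ?_
    · rintro _ ⟨x, rfl⟩
      exact torus_mem hD hR x
    · have hx' : (x : GL D.Idx F) ∈ (ChevOrder.torusHom D F).range := by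
        rw [ChevOrder.torusHom_range hD]; exact hx
      obtain ⟨y, hy⟩ := hx'
      exact ⟨y, Subtype.ext hy⟩
  · intro i
    ext x
    rw [Subgroup.mem_subgroupOf]
    exact ⟨fun ⟨s, hs⟩ => ⟨s, Subtype.ext hs⟩, fun ⟨s, hs⟩ => ⟨s, congrArg Subtype.val hs⟩⟩

/-- The torus map is injective when the gcds of the certificate are trivial. -/
theorem torus_ker_eq_bot [Fintype F] {P Pi Q Qi : List (List ℤ)} {e : List ℕ}
    (h : ChevOrder.TorusOK D P Pi Q Qi e = true)
    (he : ∀ i : Fin D.rank, (Fintype.card F - 1).gcd (e.getD i.val 0) = 1) :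
    (ChevOrder.torusHom D F).ker = ⊥ := by
  classical
  simp only [ChevOrder.TorusOK, Bool.and_eq_true, decide_eq_true_eq] at h
  obtain ⟨⟨h1, h2⟩, h3⟩ := h
  rw [← Subgroup.card_eq_one, ChevOrder.torusHom_ker hD hR, ChevOrder.card_ker_act (G := Fˣ) h1 h2 h3]
  refine Finset.prod_eq_one fun i _ => ?_
  rw [Nat.card_eq_fintype_card, Fintype.card_units]
  exact he i

end Cfsg.Agent.ChevSimple
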