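import Cfsg.Agent.Lib.ChevSimple.Eigen
import Cfsg.Agent.EqLemmas

/-!
# Uniqueness of the highest weight vector

`fixed_unique` : the `U`-fixed line of a simple representation; `equiv_of_eig` : simple representations with
the same data are isomorphic.
-/

set_option autoImplicit false
set_option linter.unusedSectionVars false
set_option linter.style.haveILetI false

namespace Cfsg.Agent.ChevSimple

open Cfsg.Agent.RGD Cfsg.Agent.RGD.RootData Cfsg.Agent.ChevBlocks Representation

variable {Γ : Type*} [Group Γ] [Finite Γ] {Φ I : Type*}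
variable {k : Type*} [Field k] {V V' : Type*} [AddCommGroup V] [Module k V] [AddCommGroup V'] [Module k V']

/-- No invariant subspace other than `⊥`, `⊤`. -/
def Irr (ρ : Representation k Γ V) : Prop :=
  Nontrivial V ∧ ∀ W : Submodule k V, (∀ g x, x ∈ W → ρ g x ∈ W) → W = ⊥ ∨ W = ⊤

lemma irr_of_isIrreducible {ρ : Representation k Γ V} (h : ρ.IsIrreducible) : Irr ρ := by
  refine ⟨?_, fun W hW => ?_⟩
  · by_contra hn
    rw [not_nontrivial_iff_subsingleton] at hn
    obtain ⟨a, b, hab⟩ := h.exists_pair_ne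
    exact hab (Subrepresentation.toSubmodule_injective (Subsingleton.elim _ _))
  · rcases h.eq_bot_or_eq_top (⟨W, fun g x hx => hW g x hx⟩ : Subrepresentation ρ) with e | e
    · exact Or.inl (congrArg Subrepresentation.toSubmodule e)
    · exact Or.inr (congrArg Subrepresentation.toSubmodule e)

lemma Irr.isIrreducible {ρ : Representation k Γ V} (h : Irr ρ) : ρ.IsIrreducible := by
  haveI := h.1
  have hne : (⊥ : Subrepresentation ρ) ≠ ⊤ := fun e =>
    bot_ne_top (α := Submodule k V) (congrArg Subrepresentation.toSubmodule e)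
  exact
    { exists_pair_ne := ⟨⊥, ⊤, hne⟩
      eq_bot_or_eq_top := fun W =>
        (h.2 W.toSubmodule fun g x hx => W.apply_mem_toSubmodule g hx).imp
          (fun e => Subrepresentation.toSubmodule_injective e)
          (fun e => Subrepresentation.toSubmodule_injective e) }

lemma Irr.dual [FiniteDimensional k V] {ρ : Representation k Γ V} (h : Irr ρ) : Irr ρ.dual := by
  haveI := h.1
  refine ⟨inferInstance, fun W hW => ?_⟩
  rcases h.2 W.dualCoannihilator (fun g x hx =>
      (Submodule.mem_dualCoannihilator _).2 fun φ hφ => by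
        have h1 := (Submodule.mem_dualCoannihilator _).1 hx _ (hW g⁻¹ φ hφ)
        rw [Representation.dual_apply, inv_inv, Module.Dual.transpose_apply] at h1
        exact h1) with e | e
  · refine Or.inr ?_
    rw [← Subspace.dualCoannihilator_dualAnnihilator_eq (W := W), e, Submodule.dualAnnihilator_bot]
  · refine Or.inl ?_
    rw [← Subspace.dualCoannihilator_dualAnnihilator_eq (W := W), e, Submodule.dualAnnihilator_top]

variable {R : RootData Γ Φ I} {p : ℕ} [hp : Fact p.Prime] [CharP k p] {l₀ : List I} {K : I → Subgroup Γ}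
  (X : Hyp R p l₀ K)
include X

omit hp [CharP k p] in
lemma span_orbit_eq_top {ρ : Representation k Γ V} {lam : R.H →* kˣ} {J : Set I} {v : V}
    (he : Eig R ρ lam J v) (hirr : Irr ρ) (hv : v ≠ 0) :
    Submodule.span k (Set.range fun u : R.Upos => ρ u (ρ (R.nw l₀) v)) = ⊤ := by
  obtain ⟨h1, h2⟩ := orbit_invariant X he rfl
  exact (hirr.2 _ h1).resolve_left fun e => hv ((Submodule.mem_bot k).1 (e ▸ h2))

variable [IsAlgClosed k] [FiniteDimensional k V]

/-- The `U`-fixed vectors of a simple representation form a line. -/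
theorem fixed_unique {ρ : Representation k Γ V} (hirr : Irr ρ) {v w : V} (hv : v ≠ 0)
    (hfv : ∀ u ∈ R.Upos, ρ u v = v) (hfw : ∀ u ∈ R.Upos, ρ u w = w) : ∃ c : k, w = c • v := by
  haveI := hirr.dual.1
  obtain ⟨lam, J, -, φ, hφ, he⟩ := exists_eig X ρ.dual
  have htop := span_orbit_eq_top X he hirr.dual hφ
  set φ₀ := ρ.dual (R.nw l₀) φ with hφ₀
  have hinj : ∀ x, (∀ u ∈ R.Upos, ρ u x = x) → φ₀ x = 0 → x = 0 := by
    intro x hx h0
    refine (Module.forall_dual_apply_eq_zero_iff k x).1 fun ψ => ?_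
    have hψ : ψ ∈ Submodule.span k (Set.range fun u : R.Upos => ρ.dual u φ₀) := htop ▸ Submodule.mem_top
    induction hψ using Submodule.span_induction with
    | mem ψ hψ =>
      obtain ⟨u, rfl⟩ := hψ
      show φ₀ (ρ (u : Γ)⁻¹ x) = 0
      rw [hx _ (inv_mem u.2), h0]
    | zero => rfl
    | add a b _ _ ha hb => rw [LinearMap.add_apply, ha, hb, add_zero]
    | smul c a _ ha => rw [LinearMap.smul_apply, ha, smul_zero]
  have hv0 : φ₀ v ≠ 0 := fun e => hv (hinj v hfv e)
  refine ⟨φ₀ w / φ₀ v, sub_eq_zero.1 (hinj _ (fun u hu => ?_) ?_)⟩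
  · rw [map_sub, map_smul, hfw u hu, hfv u hu]
  · rw [map_sub, map_smul, smul_eq_mul, div_mul_cancel₀ _ hv0, sub_self]

/-- Two eigenvectors of a simple representation have the same data. -/
theorem data_unique {ρ : Representation k Γ V} (hirr : Irr ρ) {lam lam' : R.H →* kˣ} {J J' : Set I}
    {v v' : V} (hv : v ≠ 0) (hv' : v' ≠ 0) (he : Eig R ρ lam J v) (he' : Eig R ρ lam' J' v') :
    lam = lam' ∧ J = J' := by
  obtain ⟨c, rfl⟩ := fixed_unique X hirr hv he.fix he'.fix
  have hc : c ≠ 0 := fun e => hv' (by rw [e, zero_smul])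
  refine ⟨MonoidHom.ext fun h => Units.ext ?_, Set.ext fun i => ?_⟩
  · have h1 := he'.wt _ h.2
    rw [map_smul, he.wt _ h.2, smul_comm, lamx_of_mem lam h.2, lamx_of_mem lam' h.2] at h1
    exact smul_left_injective k hv' h1
  · by_cases hi : i ∈ J <;> by_cases hi' : i ∈ J' <;> simp only [hi, hi']
    · have h1 := he'.ann i hi'
      rw [tau_smul, he.act i hi, smul_neg, neg_eq_zero] at h1
      exact absurd h1 hv'
    · have h1 := he'.act i hi'
      rw [tau_smul, he.ann i hi, smul_zero, eq_comm, neg_eq_zero] at h1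
      exact absurd h1 hv'

variable [FiniteDimensional k V']

/-- Simple representations with the same data are isomorphic. -/
theorem equiv_of_eig {ρ : Representation k Γ V} {σ : Representation k Γ V'} (hρ : Irr ρ) (hσ : Irr σ)
    {lam : R.H →* kˣ} {J : Set I} {v : V} {v' : V'} (hv : v ≠ 0) (hv' : v' ≠ 0)
    (he : Eig R ρ lam J v) (he' : Eig R σ lam J v') :
    ∃ e : V ≃ₗ[k] V', ∀ g x, e (ρ g x) = σ g (e x) := by
  classical
  let π := ρ.prod σ
  have hπ : ∀ g x, π g x = (ρ g x.1, σ g x.2) := fun g x => rfl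
  have hfst : ∀ g x, (LinearMap.fst k V V') (π g x) = ρ g ((LinearMap.fst k V V') x) := fun g x => rfl
  have hsnd : ∀ g x, (LinearMap.snd k V V') (π g x) = σ g ((LinearMap.snd k V V') x) := fun g x => rfl
  have hep : Eig R π lam J (v, v') := by
    refine ⟨⟨fun u hu => ?_, fun h hh => ?_⟩, fun i hi => Prod.ext ?_ ?_, fun i hi => Prod.ext ?_ ?_⟩
    · rw [hπ, he.fix u hu, he'.fix u hu]
    · rw [hπ, he.wt h hh, he'.wt h hh, Prod.smul_mk]
    · exact (tau_map R π ρ _ hfst i _).trans (he.act i hi)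
    · exact (tau_map R π σ _ hsnd i _).trans (he'.act i hi)
    · exact (tau_map R π ρ _ hfst i _).trans (he.ann i hi)
    · exact (tau_map R π σ _ hsnd i _).trans (he'.ann i hi)
  let W := Submodule.span k (Set.range fun u : R.Upos => π u (π (R.nw l₀) (v, v')))
  obtain ⟨hinv, hmem⟩ := orbit_invariant X hep (W := W) rfl
  -- a functional vanishing on `W`
  haveI := hρ.dual.1
  haveI := hσ.dual.1
  obtain ⟨_, _, -, φ, hφ0, hφ⟩ := exists_eig X ρ.dual
  obtain ⟨_, _, -, ψ, hψ0, hψ⟩ := exists_eig X σ.dual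
  have hφu : ∀ u ∈ R.Upos, ∀ x, φ (ρ u x) = φ x := fun u hu x => by
    have h1 := LinearMap.congr_fun (hφ.fix u⁻¹ (inv_mem hu)) x
    rwa [Representation.dual_apply, inv_inv, Module.Dual.transpose_apply] at h1
  have hψu : ∀ u ∈ R.Upos, ∀ x, ψ (σ u x) = ψ x := fun u hu x => by
    have h1 := LinearMap.congr_fun (hψ.fix u⁻¹ (inv_mem hu)) x
    rwa [Representation.dual_apply, inv_inv, Module.Dual.transpose_apply] at h1
  set a := ρ (R.nw l₀) v
  set b := σ (R.nw l₀) v'
  have ha : φ a ≠ 0 := fun e => hφ0 (by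
    refine LinearMap.ext_on_range (span_orbit_eq_top X he hρ hv) fun u => ?_
    rw [hφu u u.2]; exact e)
  have hb : ψ b ≠ 0 := fun e => hψ0 (by
    refine LinearMap.ext_on_range (span_orbit_eq_top X he' hσ hv') fun u => ?_
    rw [hψu u u.2]; exact e)
  have hker : ∀ x ∈ W, ψ b * φ x.1 = φ a * ψ x.2 := by
    intro x hx
    induction hx using Submodule.span_induction with
    | mem x hx =>
      obtain ⟨u, rfl⟩ := hx
      show ψ b * φ (ρ u a) = φ a * ψ (σ u b)
      rw [hφu u u.2, hψu u u.2, mul_comm]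
    | zero => simp
    | add x y _ _ hx hy => simp only [Prod.fst_add, Prod.snd_add, map_add, mul_add, hx, hy]
    | smul c x _ hx =>
      simp only [Prod.smul_fst, Prod.smul_snd, map_smul, smul_eq_mul, mul_left_comm _ c, hx]
  have hl : W.comap (LinearMap.inl k V V') = ⊥ := by
    refine (hρ.2 _ fun g x hx => ?_).resolve_right fun e => ?_
    · have h1 := hinv g _ (Submodule.mem_comap.1 hx)
      rw [hπ] at h1
      simpa [Submodule.mem_comap] using h1
    · have h1 := hker (a, 0) (Submodule.mem_comap.1 (e ▸ Submodule.mem_top : a ∈ W.comap (LinearMap.inl k V V')))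
      rw [map_zero, mul_zero] at h1
      exact mul_ne_zero hb ha h1
  have hr : W.comap (LinearMap.inr k V V') = ⊥ := by
    refine (hσ.2 _ fun g x hx => ?_).resolve_right fun e => ?_
    · have h1 := hinv g _ (Submodule.mem_comap.1 hx)
      rw [hπ] at h1
      simpa [Submodule.mem_comap] using h1
    · have h1 := hker (0, b) (Submodule.mem_comap.1 (e ▸ Submodule.mem_top : b ∈ W.comap (LinearMap.inr k V V')))
      rw [map_zero, mul_zero] at h1
      exact mul_ne_zero ha hb h1.symm
  let f := (LinearMap.fst k V V').comp W.subtype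
  let f' := (LinearMap.snd k V V').comp W.subtype
  have hf : Function.Bijective f := by
    refine ⟨(injective_iff_map_eq_zero f).2 fun x hx => Subtype.ext (Prod.ext hx ?_), fun y => ?_⟩
    · refine (Submodule.mem_bot k).1 (hr ▸ Submodule.mem_comap.2 ?_)
      rw [LinearMap.inr_apply, ← show (x : V × V').1 = 0 from hx]
      exact x.2
    · have := (hρ.2 (W.map (LinearMap.fst k V V')) (fun g y ⟨x, hx, e⟩ =>
        ⟨π g x, hinv g x hx, by rw [hfst, e]⟩)).resolve_left fun e => hv (by
          have h1 : v ∈ W.map (LinearMap.fst k V V') := ⟨_, hmem, rfl⟩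
          rwa [e, Submodule.mem_bot] at h1)
      obtain ⟨x, hx, e⟩ := (this ▸ Submodule.mem_top : y ∈ W.map (LinearMap.fst k V V'))
      exact ⟨⟨x, hx⟩, e⟩
  have hf' : Function.Bijective f' := by
    refine ⟨(injective_iff_map_eq_zero f').2 fun x hx => Subtype.ext (Prod.ext ?_ hx), fun y => ?_⟩
    · refine (Submodule.mem_bot k).1 (hl ▸ Submodule.mem_comap.2 ?_)
      rw [LinearMap.inl_apply, ← show (x : V × V').2 = 0 from hx]
      exact x.2
    · have := (hσ.2 (W.map (LinearMap.snd k V V')) (fun g y ⟨x, hx, e⟩ =>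
        ⟨π g x, hinv g x hx, by rw [hsnd, e]⟩)).resolve_left fun e => hv' (by
          have h1 : v' ∈ W.map (LinearMap.snd k V V') := ⟨_, hmem, rfl⟩
          rwa [e, Submodule.mem_bot] at h1)
      obtain ⟨x, hx, e⟩ := (this ▸ Submodule.mem_top : y ∈ W.map (LinearMap.snd k V V'))
      exact ⟨⟨x, hx⟩, e⟩
  let e₁ := LinearEquiv.ofBijective f hf
  refine ⟨e₁.symm.trans (LinearEquiv.ofBijective f' hf'), fun g x => ?_⟩
  obtain ⟨z, rfl⟩ := e₁.surjective x
  have hz : ρ g (e₁ z) = e₁ ⟨π g z, hinv g z z.2⟩ := rfl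
  rw [hz, LinearEquiv.trans_apply, LinearEquiv.trans_apply, LinearEquiv.symm_apply_apply,
    LinearEquiv.symm_apply_apply]
  rfl

end Cfsg.Agent.ChevSimple
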