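import Cfsg.Agent.Lib.ChevSimple.Hyp
import Cfsg.Agent.Lib.Perm.PermModule
import Cfsg.Agent.EqLemmas

/-!
# Highest weight vectors in the defining characteristic

`tau R ρ i v` : the sum of `ρ (a n i⁻¹) v` over the fundamental root group; `Eig` : a `U`-fixed eigenvector of
`H` and of all `tau`. Main: `exists_eig`, `orbit_invariant`.
-/

set_option autoImplicit false
set_option linter.unusedSectionVars false
set_option linter.style.haveILetI false

namespace Cfsg.Agent.ChevSimple

open Cfsg.Agent.RGD Cfsg.Agent.RGD.RootData Cfsg.Agent.ChevBlocks Representation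

variable {Γ : Type*} [Group Γ] [Finite Γ] {Φ I : Type*}
variable {k : Type*} [Field k] {V V' : Type*} [AddCommGroup V] [Module k V] [AddCommGroup V'] [Module k V']

/-- The operator of a fundamental root group. -/
noncomputable def tau (R : RootData Γ Φ I) (ρ : Representation k Γ V) (i : I) (v : V) : V :=
  S R i (fun g => ρ g v) 1

variable (R : RootData Γ Φ I)

lemma tau_eq (ρ : Representation k Γ V) (i : I) [Fintype (R.U (R.simple i))] (v : V) :
    tau R ρ i v = ∑ a : R.U (R.simple i), ρ ((a : Γ) * (R.n i)⁻¹) v := by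
  rw [tau, S_eq]
  simp

lemma tau_map (ρ : Representation k Γ V) (σ : Representation k Γ V') (f : V →ₗ[k] V')
    (hf : ∀ g v, f (ρ g v) = σ g (f v)) (i : I) (v : V) : f (tau R ρ i v) = tau R σ i (f v) := by
  classical
  letI := Fintype.ofFinite (R.U (R.simple i))
  rw [tau_eq, tau_eq, map_sum]
  exact Finset.sum_congr rfl fun a _ => hf _ v

lemma tau_smul (ρ : Representation k Γ V) (i : I) (c : k) (v : V) :
    tau R ρ i (c • v) = c • tau R ρ i v := by
  classical
  letI := Fintype.ofFinite (R.U (R.simple i))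
  rw [tau_eq, tau_eq, Finset.smul_sum]
  exact Finset.sum_congr rfl fun a _ => map_smul _ c v

/-- A `U`-fixed eigenvector of `H` with character `lam`. -/
structure Wt (ρ : Representation k Γ V) (lam : R.H →* kˣ) (v : V) : Prop where
  fix : ∀ u ∈ R.Upos, ρ u v = v
  wt : ∀ h, h ∈ R.H → ρ h v = lamx lam h • v

/-- An eigenvector of `U`, `H` and all `tau`, with data `lam`, `J`. -/
structure Eig (ρ : Representation k Γ V) (lam : R.H →* kˣ) (J : Set I) (v : V) : Prop
    extends Wt R ρ lam v where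
  act : ∀ i, i ∈ J → tau R ρ i v = -v
  ann : ∀ i, i ∉ J → tau R ρ i v = 0

variable {R}

lemma Eig.map {ρ : Representation k Γ V} {σ : Representation k Γ V'} {lam : R.H →* kˣ} {J : Set I} {v : V}
    (he : Eig R ρ lam J v) (f : V →ₗ[k] V') (hf : ∀ g v, f (ρ g v) = σ g (f v)) :
    Eig R σ lam J (f v) where
  fix u hu := by rw [← hf, he.fix u hu]
  wt h hh := by rw [← hf, he.wt h hh, map_smul]
  act i hi := by rw [← tau_map R ρ σ f hf, he.act i hi, map_neg]
  ann i hi := by rw [← tau_map R ρ σ f hf, he.ann i hi, map_zero]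

lemma Eig.comap {ρ : Representation k Γ V} {σ : Representation k Γ V'} {lam : R.H →* kˣ} {J : Set I} {v : V}
    (f : V →ₗ[k] V') (hf : ∀ g v, f (ρ g v) = σ g (f v)) (hinj : Function.Injective f)
    (he : Eig R σ lam J (f v)) : Eig R ρ lam J v where
  fix u hu := hinj (by rw [hf, he.fix u hu])
  wt h hh := hinj (by rw [hf, he.wt h hh, map_smul])
  act i hi := hinj (by rw [tau_map R ρ σ f hf, he.act i hi, map_neg])
  ann i hi := hinj (by rw [tau_map R ρ σ f hf, he.ann i hi, map_zero])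

lemma Wt.smul {ρ : Representation k Γ V} {lam : R.H →* kˣ} {v : V} (he : Wt R ρ lam v) (c : k) :
    Wt R ρ lam (c • v) where
  fix u hu := by rw [map_smul, he.fix u hu]
  wt h hh := by rw [map_smul, he.wt h hh, smul_comm]

/-- `lam` composed with conjugation by a representative. -/
def conjChar (i : I) (lam : R.H →* kˣ) : R.H →* kˣ :=
  lam.comp
    { toFun := fun h => ⟨R.n i * h * (R.n i)⁻¹, R.n_conj_H i _ h.2⟩
      map_one' := Subtype.ext (by simp)
      map_mul' := fun a b => Subtype.ext (by simp) }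

lemma lamx_conjChar (i : I) (lam : R.H →* kˣ) {h : Γ} (hh : h ∈ R.H) :
    lamx (conjChar i lam) h = lamx lam (R.n i * h * (R.n i)⁻¹) := by
  rw [lamx_of_mem _ hh, lamx_of_mem _ (R.n_conj_H i h hh)]
  rfl

lemma Wt.tau {ρ : Representation k Γ V} {lam : R.H →* kˣ} {v : V} (he : Wt R ρ lam v) (i : I) :
    Wt R ρ (conjChar i lam) (tau R ρ i v) := by
  classical
  letI := Fintype.ofFinite (R.U (R.simple i))
  refine ⟨fun u hu => ?_, fun h hh => ?_⟩
  · obtain ⟨c, hc, x, hx, rfl⟩ := R.exists_Upos (i := i) hu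
    rw [tau_eq, map_sum]
    refine Fintype.sum_equiv (Equiv.mulLeft (⟨x, hx⟩ : R.U (R.simple i))) _ _ fun a => ?_
    set b := x * (a : Γ)
    have hb : b ∈ R.U (R.simple i) := mul_mem hx a.2
    rw [← Module.End.mul_apply, ← map_mul,
      show c * x * ((a : Γ) * (R.n i)⁻¹) = b * (R.n i)⁻¹ * (R.n i * (b⁻¹ * c * b) * (R.n i)⁻¹) by simp only [b]; group,
      map_mul, Module.End.mul_apply, he.fix _ (R.Udel_le_Upos i (R.n_conj_Udel i _ (by
        simpa using R.U_conj_Udel i (inv_mem hb) c hc)))]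
    rfl
  · rw [tau_eq, map_sum, Finset.smul_sum]
    refine Finset.sum_bij (fun a _ => (⟨h * a * h⁻¹, R.H_conj_U h hh _ _ a.2⟩ : R.U (R.simple i)))
      (fun _ _ => Finset.mem_univ _)
      (fun a _ b _ e => Subtype.ext (mul_left_cancel (mul_right_cancel (congrArg Subtype.val e))))
      (fun b _ => ⟨⟨h⁻¹ * b * h, R.conj_H_U' hh b.2⟩, Finset.mem_univ _, Subtype.ext (by group)⟩)
      (fun a _ => ?_)
    rw [← Module.End.mul_apply, ← map_mul,
      show h * ((a : Γ) * (R.n i)⁻¹) = h * a * h⁻¹ * (R.n i)⁻¹ * (R.n i * h * (R.n i)⁻¹) by group,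
      map_mul, Module.End.mul_apply, he.wt _ (R.n_conj_H i h hh), map_smul, lamx_conjChar i lam hh]

variable {p : ℕ} [hp : Fact p.Prime] [CharP k p] {l₀ : List I} {K : I → Subgroup Γ} (X : Hyp R p l₀ K)
include X

lemma Wt.tau_tau {ρ : Representation k Γ V} {lam : R.H →* kˣ} {v : V} (he : Wt R ρ lam v) (i : I) :
    ChevSimple.tau R ρ i (ChevSimple.tau R ρ i v) = sumEta X lam i • ChevSimple.tau R ρ i v := by
  classical
  letI := Fintype.ofFinite (R.U (R.simple i))
  have hS : sumEta X lam i =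
      ∑ a : R.U (R.simple i), if a = 1 then 0 else lamx lam (eta X i a) := by
    unfold sumEta
    exact Finset.sum_congr (by ext; simp) fun _ _ => rfl
  rw [hS, Finset.sum_smul]
  simp only [tau_eq, map_sum]
  rw [Finset.sum_comm]
  refine Finset.sum_congr rfl fun a _ => ?_
  by_cases ha : a = 1
  · subst ha
    rw [if_pos rfl, zero_smul]
    have h1 : ∀ b : R.U (R.simple i), ρ ((b : Γ) * (R.n i)⁻¹) (ρ (((1 : R.U (R.simple i)) : Γ) * (R.n i)⁻¹) v)
        = lamx lam (R.n i * R.n i)⁻¹ • v := by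
      intro b
      rw [OneMemClass.coe_one, one_mul, ← Module.End.mul_apply, ← map_mul,
        show (b : Γ) * (R.n i)⁻¹ * (R.n i)⁻¹ = b * (R.n i * R.n i)⁻¹ by group, map_mul,
        Module.End.mul_apply, he.wt _ (inv_mem (R.n_sq i)), map_smul,
        he.fix _ (R.U_le_Upos (R.pos_simple i) b.2)]
    rw [Finset.sum_congr rfl fun b _ => h1 b, Finset.sum_const, Finset.card_univ,
      ← Nat.card_eq_fintype_card, ← Nat.cast_smul_eq_nsmul k,
      (CharP.cast_eq_zero_iff k p _).2 (dvd_card_U X i), zero_smul]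
  · rw [if_neg ha]
    obtain ⟨hη, y, hy, c, hc, e⟩ := eta_dec X a.2 fun h => ha (Subtype.ext h)
    set z := (R.n i)⁻¹ * y * R.n i with hz
    have hzU : z ∈ R.U (R.simple i) := by
      have h4 := R.n_conj_U i _ _ hy
      rw [R.w_neg, R.w_simple, R.neg_neg] at h4
      have h5 := R.H_conj_U _ (inv_mem (R.n_sq i)) _ _ h4
      simpa [hz, mul_assoc] using h5
    rw [Finset.smul_sum]
    refine Fintype.sum_equiv (Equiv.mulRight (⟨z, hzU⟩ : R.U (R.simple i))) _ _ fun b => ?_
    rw [e, map_mul _ (y * eta X i a) c, Module.End.mul_apply, he.fix c (R.U_le_Upos (R.pos_simple i) hc),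
      map_mul _ y, Module.End.mul_apply, he.wt _ (X.K_le i hη), map_smul, map_smul,
      ← Module.End.mul_apply, ← map_mul]
    congr 2
    show _ = ρ ((b : Γ) * z * (R.n i)⁻¹)
    congr 1
    rw [hz]; group

/-- `sigma`-vectors : the sum over `Uminus l`. -/
lemma T_apply (ρ : Representation k Γ V) (l : List I) (v : V) (g : Γ) :
    T R l (fun g => ρ g v) g = ρ g (T R l (fun g => ρ g v) 1) := by
  classical
  letI := Fintype.ofFinite (R.Uminus l)
  rw [T_eq, T_eq, map_sum]
  refine Finset.sum_congr rfl fun a _ => ?_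
  rw [← Module.End.mul_apply, ← map_mul, one_mul, mul_assoc]

lemma T_concat_apply (ρ : Representation k Γ V) {l : List I} {i : I}
    (h : R.pos (R.ww l (R.simple i))) (v : V) :
    T R (l ++ [i]) (fun g => ρ g v) 1 = ChevSimple.tau R ρ i (T R l (fun g => ρ g v) 1) := by
  classical
  letI := Fintype.ofFinite (R.U (R.simple i))
  rw [T_concat h, S_eq, tau_eq]
  refine Finset.sum_congr rfl fun a _ => ?_
  rw [T_apply X ρ l v, one_mul]

lemma T_congr_apply {ρ : Representation k Γ V} {lam : R.H →* kˣ} {v : V} (he : Wt R ρ lam v)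
    {l l' : List I} {c : Γ} (hc : c ∈ R.H) (e : R.nw l = c * R.nw l') :
    T R l (fun g => ρ g v) 1 = lamx lam c⁻¹ • T R l' (fun g => ρ g v) 1 := by
  classical
  letI := Fintype.ofFinite (R.Uminus l')
  rw [T_congr hc e, T_eq, T_eq, Finset.smul_sum]
  refine Finset.sum_congr rfl fun a _ => ?_
  rw [map_mul, Module.End.mul_apply, he.wt _ (inv_mem hc), map_smul]

lemma Wt.sigma {ρ : Representation k Γ V} {lam : R.H →* kˣ} {v : V} (he : Wt R ρ lam v) (l : List I) :
    ∃ mu : R.H →* kˣ, Wt R ρ mu (T R l (fun g => ρ g v) 1) := by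
  induction hlen : l.length using Nat.strong_induction_on generalizing l with
  | _ q ih =>
    rcases List.eq_nil_or_concat' l with rfl | ⟨l', i, rfl⟩
    · refine ⟨lam, ?_⟩
      rw [T_nil, map_one, Module.End.one_apply]
      exact he
    by_cases h : R.pos (R.ww l' (R.simple i))
    · obtain ⟨mu, hmu⟩ := ih l'.length (by subst hlen; simp) l' rfl
      exact ⟨_, T_concat_apply X ρ h v ▸ hmu.tau i⟩
    · obtain ⟨l'', hlen', c, hc, e⟩ := R.exists_shorter h
      obtain ⟨mu, hmu⟩ := ih l''.length (by subst hlen; simp; omega) l'' rfl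
      exact ⟨mu, T_congr_apply X he hc e ▸ hmu.smul _⟩

lemma card_Uminus_concat {l : List I} {i : I} (h : R.pos (R.ww l (R.simple i))) :
    Nat.card (R.Uminus l) < Nat.card (R.Uminus (l ++ [i])) := by
  classical
  letI := Fintype.ofFinite (R.Uminus l)
  letI := Fintype.ofFinite (R.Uminus (l ++ [i]))
  letI := Fintype.ofFinite (R.U (R.simple i))
  have e := congrFun (T_concat (R := R) h (fun _ : Γ => (1 : ℕ))) 1
  simp only [T_eq, S_eq, Finset.sum_const, Finset.card_univ, smul_eq_mul, mul_one,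
    ← Nat.card_eq_fintype_card] at e
  rw [e]
  exact lt_mul_left Nat.card_pos (two_le_card_U X i)

variable [IsAlgClosed k]

omit hp [CharP k p] in
/-- A common eigenvector of `H` in a subspace stable under it. -/
lemma exists_common (ρ : Representation k Γ V) [FiniteDimensional k V] (W : Submodule k V)
    (hW : ∀ h ∈ R.H, ∀ x ∈ W, ρ h x ∈ W) (hne : W ≠ ⊥) :
    ∃ v ∈ W, v ≠ 0 ∧ ∀ h ∈ R.H, ∃ c : k, ρ h v = c • v := by
  induction hd : Module.finrank k W using Nat.strong_induction_on generalizing W with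
  | _ q ih =>
    by_cases hs : ∀ h ∈ R.H, ∃ c : k, ∀ x ∈ W, ρ h x = c • x
    · obtain ⟨v, hv, hv0⟩ := Submodule.exists_mem_ne_zero_of_ne_bot hne
      exact ⟨v, hv, hv0, fun h hh => (hs h hh).imp fun c hc => hc v hv⟩
    push Not at hs
    obtain ⟨h₁, hh₁, hs⟩ := hs
    haveI : Nontrivial W := Submodule.nontrivial_iff_ne_bot.2 hne
    obtain ⟨c, hc⟩ := Module.End.exists_eigenvalue ((ρ h₁).restrict (hW h₁ hh₁))
    obtain ⟨w, hw⟩ := hc.exists_hasEigenvector
    obtain ⟨x, hxW, hx⟩ := hs c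
    set W' := W ⊓ LinearMap.ker (ρ h₁ - c • LinearMap.id)
    have hlt : W' < W := lt_of_le_of_ne inf_le_left fun e => hx (by
      have h2 : x ∈ W' := by rw [e]; exact hxW
      simpa [sub_eq_zero] using h2.2)
    obtain ⟨v, hv, hv0, hv'⟩ := ih _ (hd ▸ Submodule.finrank_lt_finrank_of_lt hlt) W' (fun h hh y hy => by
        refine ⟨hW h hh y hy.1, ?_⟩
        have h2 : ρ h₁ y = c • y := by simpa [sub_eq_zero] using hy.2
        rw [SetLike.mem_coe, LinearMap.mem_ker, LinearMap.sub_apply, LinearMap.smul_apply, LinearMap.id_apply,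
          sub_eq_zero, ← Module.End.mul_apply, ← map_mul, ← X.commH h hh h₁ hh₁, map_mul,
          Module.End.mul_apply, h2, map_smul])
      (fun e => hw.2 (by
        have h2 : (w : V) ∈ W' := by
          refine ⟨w.2, ?_⟩
          have h3 := congrArg Subtype.val hw.apply_eq_smul
          simpa [sub_eq_zero] using h3
        exact Subtype.ext (Submodule.mem_bot k |>.1 (e ▸ h2)))) rfl
    exact ⟨v, hv.1, hv0, hv'⟩

/-- A weight vector exists. -/
theorem exists_wt [FiniteDimensional k V] [Nontrivial V] (ρ : Representation k Γ V) :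
    ∃ lam : R.H →* kˣ, ∃ v, v ≠ 0 ∧ Wt R ρ lam v := by
  classical
  letI := Fintype.ofFinite R.Upos
  let W : Submodule k V := ⨅ u : R.Upos, LinearMap.ker (ρ u - LinearMap.id)
  have hW : ∀ x, x ∈ W ↔ ∀ u ∈ R.Upos, ρ u x = x := fun x => by
    simp [W, Submodule.mem_iInf, sub_eq_zero, Subtype.forall]
  obtain ⟨z, -, hz0, hz⟩ := Perm.exists_fixed_ne_zero X.pgroup (ρ.comp R.Upos.subtype) ⊤
    (fun _ _ _ => Submodule.mem_top) top_ne_bot
  obtain ⟨v, hv, hv0, hev⟩ := exists_common X ρ W (fun h hh x hx => by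
    rw [hW] at hx ⊢
    intro u hu
    rw [← Module.End.mul_apply, ← map_mul, show u * h = h * (h⁻¹ * u * h) by group, map_mul,
      Module.End.mul_apply, hx _ (Upos_conj_H' hh hu)])
    (fun e => hz0 ((Submodule.mem_bot k).1 (e ▸ (hW z).2 fun u hu => hz ⟨u, hu⟩)))
  choose! c hc using hev
  have huniq : ∀ {a b : k}, a • v = b • v → a = b := fun {a b} e =>
    smul_left_injective k hv0 e
  have hc0 : ∀ h : R.H, c h ≠ 0 := fun h e => hv0 (by
    have h2 : ρ ((h : Γ)⁻¹) (ρ h v) = v := by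
      rw [← Module.End.mul_apply, ← map_mul, inv_mul_cancel, map_one, Module.End.one_apply]
    rw [hc h h.2, e, zero_smul, map_zero] at h2
    exact h2.symm)
  let lam : R.H →* kˣ :=
    { toFun := fun h => Units.mk0 (c h) (hc0 h)
      map_one' := Units.ext (huniq (by
        show c ((1 : R.H) : Γ) • v = (1 : k) • v
        rw [OneMemClass.coe_one, ← hc _ (one_mem _), map_one, Module.End.one_apply, one_smul]))
      map_mul' := fun a b => Units.ext (huniq (by
        show c ((a * b : R.H) : Γ) • v = (c a * c b) • v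
        rw [← hc _ (a * b).2, Subgroup.coe_mul, map_mul, Module.End.mul_apply, hc _ b.2, map_smul,
          hc _ a.2, smul_smul, mul_comm])) }
  refine ⟨lam, v, hv0, (hW v).1 hv, fun h hh => ?_⟩
  rw [hc h hh, lamx_of_mem lam hh]
  rfl

/-- Every representation has an eigenvector with admissible data. -/
theorem exists_eig [FiniteDimensional k V] [Nontrivial V] (ρ : Representation k Γ V) :
    ∃ lam : R.H →* kˣ, ∃ J : Set I, (∀ i ∈ J, Triv lam (K i)) ∧ ∃ v, v ≠ 0 ∧ Eig R ρ lam J v := by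
  classical
  obtain ⟨lam, v, hv0, he⟩ := exists_wt X ρ
  let A := {P : Subgroup Γ // ∃ l, P = R.Uminus l ∧ T R l (fun g => ρ g v) 1 ≠ 0}
  haveI : Nonempty A := ⟨⟨_, [], rfl, by rw [T_nil, map_one, Module.End.one_apply]; exact hv0⟩⟩
  obtain ⟨⟨_, l, rfl, hl⟩, hmax⟩ := Finite.exists_max fun P : A => Nat.card P.1
  set w := T R l (fun g => ρ g v) 1 with hw
  obtain ⟨mu, hmu⟩ := he.sigma X l
  have key : ∀ i, ∃ s : k, ChevSimple.tau R ρ i w = s • w := by
    intro i
    by_cases h : R.pos (R.ww l (R.simple i))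
    · refine ⟨0, ?_⟩
      rw [zero_smul, ← T_concat_apply X ρ h v]
      by_contra h0
      exact (card_Uminus_concat X h).not_ge (hmax ⟨_, l ++ [i], rfl, h0⟩)
    · obtain ⟨l'', -, c, hc, e⟩ := R.exists_shorter h
      set d := c * (R.nw l'' * (R.n i * R.n i)⁻¹ * (R.nw l'')⁻¹) with hd
      have hdH : d ∈ R.H := mul_mem hc (R.nw_conj_H _ (inv_mem (R.n_sq i)))
      have e' : R.nw l = d * R.nw (l'' ++ [i]) := by
        simp only [R.nw_append, R.nw_cons, R.nw_nil, mul_one] at e ⊢
        rw [hd, show R.nw l = R.nw l * R.n i * (R.n i)⁻¹ by group, e]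
        group
      have hp' : R.pos (R.ww l'' (R.simple i)) := by
        rw [R.pos_ww_congr hdH e' (R.simple i), R.ww_append, R.ww_cons, R.ww_nil, R.w_simple,
          R.ww_neg, R.pos_neg, not_not] at h
        exact h
      obtain ⟨nu, hnu⟩ := he.sigma X l''
      refine ⟨sumEta X nu i, ?_⟩
      rw [hw, T_congr_apply X he hdH e', T_concat_apply X ρ hp' v, tau_smul, hnu.tau_tau X i, smul_comm]
  choose s hs using key
  let J : Set I := {i | s i ≠ 0}
  have hJ : ∀ i ∈ J, Triv mu (K i) ∧ s i = -1 := by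
    intro i hi
    have h2 := hmu.tau_tau X i
    rw [hs i, tau_smul, hs i, smul_smul, smul_smul] at h2
    have h3 : s i = sumEta X mu i := mul_right_cancel₀ hi (smul_left_injective k hl h2)
    rw [sumEta_eq X mu i] at h3
    split_ifs at h3 with ht
    · exact ⟨ht, h3⟩
    · exact absurd h3 hi
  refine ⟨mu, J, fun i hi => (hJ i hi).1, w, hl, hmu, fun i hi => ?_, fun i hi => ?_⟩
  · rw [hs i, (hJ i hi).2, neg_one_smul]
  · rw [hs i, show s i = 0 from not_not.1 hi, zero_smul]

omit [IsAlgClosed k] hp [CharP k p] in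
/-- The span of the `U`-orbit of `n₀ v` is the subspace generated by an eigenvector `v`. -/
theorem orbit_invariant {ρ : Representation k Γ V} {lam : R.H →* kˣ} {J : Set I} {v : V}
    (he : Eig R ρ lam J v) {W : Submodule k V}
    (hW : W = Submodule.span k (Set.range fun u : R.Upos => ρ u (ρ (R.nw l₀) v))) :
    (∀ g x, x ∈ W → ρ g x ∈ W) ∧ v ∈ W := by
  classical
  have hl₀ := X.long
  set n₀ := R.nw l₀ with hn₀
  set w₀ := ρ n₀ v with hw₀
  have hgen : ∀ u ∈ R.Upos, ρ u w₀ ∈ W := fun u hu => by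
    rw [hW]; exact Submodule.subset_span ⟨⟨u, hu⟩, rfl⟩
  have hcheck : ∀ g, (∀ u ∈ R.Upos, ρ g (ρ u w₀) ∈ W) → ∀ x ∈ W, ρ g x ∈ W := by
    intro g hg x hx
    have : W ≤ W.comap (ρ g) := by
      conv_lhs => rw [hW]
      rw [Submodule.span_le]
      rintro _ ⟨u, rfl⟩
      exact hg u u.2
    exact this hx
  let M : Submonoid Γ :=
    { carrier := {g | ∀ x ∈ W, ρ g x ∈ W}
      one_mem' := fun x hx => by rwa [map_one, Module.End.one_apply]
      mul_mem' := fun {a b} ha hb x hx => by rw [map_mul, Module.End.mul_apply]; exact ha _ (hb x hx) }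
  have hU : ∀ u ∈ R.Upos, u ∈ M := fun u hu => hcheck u fun z hz => by
    rw [← Module.End.mul_apply, ← map_mul]; exact hgen _ (mul_mem hu hz)
  have hH : ∀ h ∈ R.H, h ∈ M := fun h hh => hcheck h fun z hz => by
    rw [hw₀, ← Module.End.mul_apply, ← map_mul, ← Module.End.mul_apply, ← map_mul,
      show h * z * n₀ = h * z * h⁻¹ * n₀ * (n₀⁻¹ * h * n₀) by group, map_mul, Module.End.mul_apply,
      he.wt _ (R.nw_conj_H' l₀ hh), map_smul, map_mul, Module.End.mul_apply]
    exact W.smul_mem _ (hgen _ (Upos_conj_H hh hz))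
  have hn : ∀ i, R.n i ∈ M := fun i => hcheck _ fun z hz => by
    obtain ⟨c, hc, x, hx, rfl⟩ := R.exists_Upos (i := i) hz
    obtain ⟨j, hj⟩ := opp_word X (i := i)
    obtain ⟨t, ht, e⟩ := R.conj_n_mem hj
    simp only [R.nw_append, R.nw_cons, R.nw_nil, mul_one, ← hn₀] at e
    set y₁ := n₀⁻¹ * x * n₀ with hy₁
    have hy₁U : y₁ ∈ R.U (R.neg (R.simple j)) := by
      have h1 := R.map_conj_U l₀ (R.neg (R.simple j))
      rw [show R.ww l₀ (R.neg (R.simple j)) = R.simple i by
        rw [← R.w_simple j, ← hj, R.ww_append, R.ww_cons, R.ww_nil]] at h1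
      exact (mem_map_conj _).1 (h1 ▸ hx)
    set a := (R.n j)⁻¹ * y₁ * R.n j with ha
    have haU : a ∈ R.U (R.simple j) := by
      have h4 := R.n_conj_U j _ _ hy₁U
      rw [R.w_neg, R.w_simple, R.neg_neg] at h4
      have h5 := R.H_conj_U _ (inv_mem (R.n_sq j)) _ _ h4
      simpa [ha, mul_assoc] using h5
    have hcore : ∀ b ∈ R.U (R.simple j), ρ n₀ (ρ (b * (R.n j)⁻¹) v) ∈ W := by
      have hne : ∀ b ∈ R.U (R.simple j), b ≠ 1 → ρ n₀ (ρ (b * (R.n j)⁻¹) v) ∈ W := by
        intro b hb hb1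
        obtain ⟨hη, y, hy, c', hc', e'⟩ := eta_dec X hb hb1
        rw [e', map_mul _ (y * eta X j b) c', Module.End.mul_apply,
          he.fix c' (R.U_le_Upos (R.pos_simple j) hc'), map_mul _ y, Module.End.mul_apply,
          he.wt _ (X.K_le j hη), map_smul, map_smul, ← Module.End.mul_apply, ← map_mul,
          show n₀ * y = n₀ * y * n₀⁻¹ * n₀ by group, map_mul, Module.End.mul_apply]
        exact W.smul_mem _ (hgen _ (nw_conj_neg hl₀ hy))
      intro b hb
      by_cases hb1 : b = 1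
      swap
      · exact hne b hb hb1
      letI := Fintype.ofFinite (R.U (R.simple j))
      have hτ : ρ n₀ (ChevSimple.tau R ρ j v) ∈ W := by
        by_cases hjJ : j ∈ J
        · rw [he.act j hjJ, map_neg]
          exact W.neg_mem (by simpa [hw₀] using hgen 1 (one_mem _))
        · rw [he.ann j hjJ, map_zero]; exact W.zero_mem
      rw [tau_eq, map_sum, ← Finset.add_sum_erase _ _ (Finset.mem_univ (1 : R.U (R.simple j)))] at hτ
      have h2 := (W.add_mem_iff_left (W.sum_mem fun (q : R.U (R.simple j)) hq =>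
        hne q q.2 fun h => (Finset.mem_erase.1 hq).1 (Subtype.ext h))).1 hτ
      subst hb1
      simpa using h2
    have e2 : R.n i * (c * x) * n₀ = R.n i * c * (R.n i)⁻¹ * (t⁻¹ * (n₀ * (R.n j * R.n j) * n₀⁻¹)) *
        (n₀ * (a * (R.n j)⁻¹)) := by
      rw [ha, hy₁, show R.n i * (c * x) * n₀ =
        R.n i * c * (R.n i)⁻¹ * (t⁻¹ * (t * R.n i * (n₀ * R.n j)) * (R.n j)⁻¹) * (n₀⁻¹ * x * n₀) by group,
        ← e]
      group
    rw [hw₀, ← Module.End.mul_apply, ← map_mul, ← Module.End.mul_apply, ← map_mul, e2, map_mul,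
      Module.End.mul_apply, map_mul (ρ) _ (t⁻¹ * _), Module.End.mul_apply]
    refine hU _ (R.Udel_le_Upos i (R.n_conj_Udel i c hc)) _
      (hH _ (mul_mem (inv_mem ht) (R.nw_conj_H l₀ (R.n_sq j))) _ ?_)
    rw [map_mul, Module.End.mul_apply]
    exact hcore a haU
  let Mg : Subgroup Γ :=
    { M with
      inv_mem' := fun {g} hg => by
        have : g⁻¹ ∈ Submonoid.powers g :=
          mem_powers_iff_mem_zpowers.2 (inv_mem (Subgroup.mem_zpowers g))
        exact Submonoid.powers_le.2 hg this }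
  have htop : ∀ g, g ∈ Mg := fun g => by
    have h1 : R.G ≤ Mg :=
      sup_le (sup_le hU hH) (sup_le hH ((Subgroup.closure_le _).2 (by rintro _ ⟨i, rfl⟩; exact hn i)))
    exact h1 (X.gen ▸ Subgroup.mem_top g)
  refine ⟨fun g x hx => htop g x hx, ?_⟩
  have h1 := htop n₀⁻¹ w₀ (by simpa using hgen 1 (one_mem _))
  rwa [hw₀, ← Module.End.mul_apply, ← map_mul, inv_mul_cancel, map_one, Module.End.one_apply] at h1

end Cfsg.Agent.ChevSimple
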