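import Cfsg.Agent.Lib.ChevSimple.Classify
import Cfsg.Agent.EqLemmas

/-!
# An eigenvector with prescribed data

`cellFun` : the function supported on `U H N_S n₀ U`; `exists_irr` : a simple representation with given
admissible data.
-/

set_option autoImplicit false
set_option linter.unusedSectionVars false
set_option linter.style.haveILetI false

namespace Cfsg.Agent.ChevSimple

open Cfsg.Agent.RGD Cfsg.Agent.RGD.RootData Cfsg.Agent.ChevBlocks Representation

variable {Γ : Type*} [Group Γ] [Finite Γ] {Φ I : Type*}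

/-- The left regular representation on functions. -/
def funRep (Γ : Type*) [Group Γ] (k : Type*) [Field k] : Representation k Γ (Γ → k) where
  toFun g := LinearMap.funLeft k k fun x => g⁻¹ * x
  map_one' := by ext f x; simp [LinearMap.funLeft_apply]
  map_mul' g h := by ext f x; simp [LinearMap.funLeft_apply, mul_assoc]

lemma funRep_apply {k : Type*} [Field k] (g : Γ) (f : Γ → k) (x : Γ) :
    funRep Γ k g f x = f (g⁻¹ * x) := rfl

section quotient

variable {k : Type*} [Field k] {V : Type*} [AddCommGroup V] [Module k V]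

/-- An invariant subspace avoiding `f` and maximal with that property, and what it gives. -/
lemma exists_irr_image [FiniteDimensional k V] (ρ : Representation k Γ V) (f : V) (hf : f ≠ 0) :
    ∃ (M : Submodule k V) (hM : ∀ g, M ≤ M.comap (ρ g))
      (N : Submodule k (V ⧸ M)) (hN : ∀ g, N ≤ N.comap (ρ.quotient M hM g)),
      Irr ((ρ.quotient M hM).subrepresentation N hN) ∧ M.mkQ f ∈ N ∧ M.mkQ f ≠ 0 := by
  obtain ⟨M, ⟨hMi, hfM⟩, hmax⟩ := exists_maximal_of_wellFoundedGT
    (fun M : Submodule k V => (∀ g, M ≤ M.comap (ρ g)) ∧ f ∉ M)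
    ⟨⊥, fun g => bot_le, by simpa using hf⟩
  set q := ρ.quotient M hMi with hq
  let N := Submodule.span k (Set.range fun g => q g (M.mkQ f))
  have hN : ∀ g, N ≤ N.comap (q g) := fun g => by
    rw [Submodule.span_le]
    rintro _ ⟨h, rfl⟩
    refine Submodule.subset_span ⟨g * h, ?_⟩
    show q (g * h) (M.mkQ f) = q g (q h (M.mkQ f))
    rw [map_mul, Module.End.mul_apply]
  have hfN : M.mkQ f ∈ N := Submodule.subset_span ⟨1, by simp⟩
  have hf0 : M.mkQ f ≠ 0 := fun e => hfM (by simpa [Submodule.Quotient.mk_eq_zero] using e)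
  refine ⟨M, hMi, N, hN, ⟨⟨⟨⟨_, hfN⟩, 0, fun e => hf0 (congrArg Subtype.val e)⟩⟩, fun W hW => ?_⟩, hfN, hf0⟩
  refine or_iff_not_imp_left.2 fun hWne => ?_
  obtain ⟨x, hx, hx0⟩ := Submodule.exists_mem_ne_zero_of_ne_bot hWne
  set P := (W.map N.subtype).comap M.mkQ with hP
  have hPi : ∀ g, P ≤ P.comap (ρ g) := by
    intro g y hy
    obtain ⟨z, hz, e⟩ := Submodule.mem_comap.1 hy
    refine ⟨_, hW g z hz, ?_⟩
    show q g (z : V ⧸ M) = M.mkQ (ρ g y)
    rw [show (z : V ⧸ M) = M.mkQ y from e]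
    rfl
  have hMP : M ≤ P := fun y hy => by
    show M.mkQ y ∈ W.map N.subtype
    rw [Submodule.mkQ_apply, (Submodule.Quotient.mk_eq_zero M).2 hy]
    exact Submodule.zero_mem _
  have hfP : f ∈ P := by
    by_contra hfP
    obtain ⟨y, hy⟩ := M.mkQ_surjective (x : V ⧸ M)
    have hyM : y ∈ M := hmax ⟨hPi, hfP⟩ hMP (show y ∈ P from ⟨x, hx, hy.symm⟩)
    exact hx0 (Subtype.ext (by
      rw [← hy, Submodule.mkQ_apply, (Submodule.Quotient.mk_eq_zero M).2 hyM]; rfl))
  obtain ⟨z, hz, e⟩ := hfP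
  have hfW : (⟨_, hfN⟩ : N) ∈ W := by
    rwa [show (⟨_, hfN⟩ : N) = z from Subtype.ext e.symm]
  rw [eq_top_iff]
  rintro ⟨y, hy⟩ -
  have : N ≤ W.map N.subtype := Submodule.span_le.2 (by
    rintro _ ⟨g, rfl⟩
    exact ⟨_, hW g _ hfW, rfl⟩)
  obtain ⟨z, hz, e⟩ := this hy
  rwa [show (⟨y, hy⟩ : N) = z from Subtype.ext e.symm]

end quotient

variable {R : RootData Γ Φ I} {p : ℕ} [hp : Fact p.Prime] {l₀ : List I} {K : I → Subgroup Γ}
  {k : Type*} [Field k] (lam : R.H →* kˣ) (S : Set I)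

/-- `x` lies in `U h N_S n₀ U`. -/
def InW (R : RootData Γ Φ I) (l₀ : List I) (S : Set I) (x h : Γ) : Prop :=
  h ∈ R.H ∧ ∃ m : List I, (∀ a ∈ m, a ∈ S) ∧ ∃ a ∈ R.Upos, ∃ b ∈ R.Upos,
    x = a * h * R.nw m * R.nw l₀ * b

open Classical in
/-- The function `a h m n₀ b ↦ λ(h)⁻¹`. -/
noncomputable def cellFun (l₀ : List I) (lam : R.H →* kˣ) (S : Set I) (x : Γ) : k :=
  if hx : ∃ h, InW R l₀ S x h then (lamx lam hx.choose)⁻¹ else 0

variable {lam S}

lemma cellFun_of_not {x : Γ} (hx : ∀ h, ¬ InW R l₀ S x h) : cellFun l₀ lam S x = 0 :=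
  dif_neg fun ⟨h, hh⟩ => hx h hh

variable (X : Hyp R p l₀ K)
include X

lemma torus_part {a b n h h' : Γ} (hn : n ∈ R.N) (ha : a ∈ R.Upos) (hb : b ∈ R.Upos) (hh : h ∈ R.H)
    (hh' : h' ∈ R.H) (e : a * h * n * b = h' * n) : h = h' := by
  have e1 : (h * h'⁻¹) = a⁻¹ * (h' * (n * b⁻¹ * n⁻¹) * h'⁻¹) := by
    rw [show n * b⁻¹ * n⁻¹ = h'⁻¹ * (h' * n) * b⁻¹ * n⁻¹ by group, ← e]; group
  set t := h * h'⁻¹ with ht
  have htH : t ∈ R.H := mul_mem hh (inv_mem hh')
  set z := h' * (n * b⁻¹ * n⁻¹) * h'⁻¹ with hz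
  obtain ⟨j, hj⟩ := X.pgroup ⟨b⁻¹, inv_mem hb⟩
  have hj' : b⁻¹ ^ p ^ j = 1 := congrArg Subtype.val hj
  have hzj : z ^ p ^ j = 1 := by rw [hz, conj_pow, conj_pow, hj']; group
  have key : ∀ n : ℕ, ∃ u ∈ R.Upos, z ^ n = u * t ^ n := by
    intro n
    induction n with
    | zero => exact ⟨1, one_mem _, by simp⟩
    | succ n ih =>
      obtain ⟨u, hu, e⟩ := ih
      refine ⟨u * (t ^ n * a * (t ^ n)⁻¹), mul_mem hu (Upos_conj_H (pow_mem htH n) ha), ?_⟩
      rw [pow_succ, e, show z = a * t by rw [e1]; group, pow_succ]; group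
  obtain ⟨u, hu, e2⟩ := key (p ^ j)
  rw [hzj] at e2
  have h3 : t ^ p ^ j ∈ R.Upos ⊓ R.H :=
    Subgroup.mem_inf.2 ⟨by rw [show t ^ p ^ j = u⁻¹ by rw [eq_inv_iff_mul_eq_one, ← mul_eq_one_comm, ← e2]]; exact inv_mem hu,
      pow_mem htH _⟩
  rw [show R.Upos ⊓ R.H = ⊥ from R.U_inf_H, Subgroup.mem_bot] at h3
  have h4 : orderOf t ∣ Nat.card R.H := Subgroup.orderOf_dvd_natCard _ htH
  obtain ⟨i, -, hi⟩ := (Nat.dvd_prime_pow hp.out).1 (orderOf_dvd_of_pow_eq_one h3)
  rcases Nat.eq_zero_or_pos i with rfl | hi0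
  · rw [pow_zero, orderOf_eq_one_iff] at hi
    exact mul_inv_eq_one.1 hi
  · exact absurd ((dvd_pow_self p hi0.ne').trans (hi ▸ h4)) X.regH

variable (hS : ∀ i ∈ S, Triv lam (K i))
include hS

lemma InW_lam {x h h' : Γ} (hx : InW R l₀ S x h) (hx' : InW R l₀ S x h') :
    lamx lam h = lamx lam h' := by
  obtain ⟨hh, m, hm, a, ha, b, hb, e⟩ := hx
  obtain ⟨hh', m', hm', a', ha', b', hb', e'⟩ := hx'
  set n₀ := R.nw l₀
  have hN : ∀ l : List I, R.nw l * n₀ ∈ R.N := fun l => mul_mem (R.nw_mem_N l) (R.nw_mem_N l₀)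
  have h1 := R.mem_H_of_eq (hN m) (hN m') (b₁ := a * h) (b₂ := b) (b₁' := a' * h') (b₂' := b')
    (mul_mem (R.Upos_le_B ha) (R.H_le_B hh)) (R.Upos_le_B hb)
    (mul_mem (R.Upos_le_B ha') (R.H_le_B hh')) (R.Upos_le_B hb')
    (by rw [show a * h * (R.nw m * n₀) * b = a * h * R.nw m * n₀ * b by group, ← e, e']; group)
  -- `nw m' = t · nw m`
  set t := R.nw m' * (R.nw m)⁻¹ with ht
  have htH : t ∈ R.H := by
    have h2 := R.conj_H_mem (hN m) h1
    rwa [show R.nw m * n₀ * ((R.nw m * n₀)⁻¹ * (R.nw m' * n₀)) * (R.nw m * n₀)⁻¹ = t by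
      rw [ht]; group] at h2
  have hlt : lamx lam t = 1 := by
    obtain ⟨c, hc, ec⟩ := R.exists_nw_inv m
    have h3 : R.nw m' * c * (R.nw m')⁻¹ ∈ R.H := R.nw_conj_H m' hc
    have e3 : t = R.nw m' * c * (R.nw m')⁻¹ * R.nw (m' ++ m.reverse) := by
      rw [ht, ec, R.nw_append]; group
    have h4 : R.nw (m' ++ m.reverse) ∈ R.H := by
      have := mul_mem (inv_mem h3) htH
      rwa [e3, inv_mul_cancel_left] at this
    have h5 : lamx lam c * lamx lam (R.nw (m.reverse ++ m)) = 1 := by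
      have e5 : c * R.nw (m.reverse ++ m) = 1 := by
        rw [R.nw_append, ← mul_assoc, ← ec, inv_mul_cancel]
      have h6 : R.nw (m.reverse ++ m) ∈ R.H := by
        rw [← inv_eq_of_mul_eq_one_right e5]; exact inv_mem hc
      rw [← lamx_mul lam hc h6, e5, lamx_one]
    rw [e3, lamx_mul lam h3 h4, lamx_conj_nw X lam hS hm' hc, lam_word X lam hS (fun q hq => by
      rcases List.mem_append.1 hq with hq | hq
      · exact hm' q hq
      · exact hm q (List.mem_reverse.1 hq)) h4, mul_one]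
    rwa [lam_word X lam hS (fun q hq => by
      rcases List.mem_append.1 hq with hq | hq
      · exact hm q (List.mem_reverse.1 hq)
      · exact hm q hq) (by
        rw [show R.nw (m.reverse ++ m) = c⁻¹ by
          rw [R.nw_append, eq_inv_iff_mul_eq_one, ← mul_eq_one_comm, ← mul_assoc, ← ec, inv_mul_cancel]]
        exact inv_mem hc), mul_one] at h5
  have h7 : h = h' * t := torus_part X (hN m) (a := a'⁻¹ * a) (b := b * b'⁻¹)
    (mul_mem (inv_mem ha') ha) (mul_mem hb (inv_mem hb')) hh (mul_mem hh' htH)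
    (by
      rw [show a'⁻¹ * a * h * (R.nw m * n₀) * (b * b'⁻¹) = a'⁻¹ * (a * h * R.nw m * n₀ * b) * b'⁻¹ by group,
        ← e, e', ht]
      group)
  rw [h7, lamx_mul lam hh' htH, hlt, mul_one]

lemma cellFun_eq {x h : Γ} (hx : InW R l₀ S x h) : cellFun l₀ lam S x = (lamx lam h)⁻¹ := by
  have hex : ∃ h, InW R l₀ S x h := ⟨h, hx⟩
  rw [cellFun, dif_pos hex, InW_lam X hS hex.choose_spec hx]

lemma cellFun_left {a : Γ} (ha : a ∈ R.Upos) (x : Γ) :
    cellFun l₀ lam S (a * x) = cellFun l₀ lam S x := by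
  by_cases hx : ∃ h, InW R l₀ S x h
  · obtain ⟨h, hh, m, hm, a', ha', b, hb, rfl⟩ := hx
    rw [cellFun_eq X hS (h := h) ⟨hh, m, hm, a * a', mul_mem ha ha', b, hb, by group⟩,
      cellFun_eq X hS (h := h) ⟨hh, m, hm, a', ha', b, hb, rfl⟩]
  · push Not at hx
    rw [cellFun_of_not hx, cellFun_of_not fun h ⟨hh, m, hm, a', ha', b, hb, e⟩ => hx h
      ⟨hh, m, hm, a⁻¹ * a', mul_mem (inv_mem ha) ha', b, hb, by rw [← inv_mul_cancel_left a x, e]; group⟩]

lemma cellFun_right {b : Γ} (hb : b ∈ R.Upos) (x : Γ) :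
    cellFun l₀ lam S (x * b) = cellFun l₀ lam S x := by
  by_cases hx : ∃ h, InW R l₀ S x h
  · obtain ⟨h, hh, m, hm, a, ha, b', hb', rfl⟩ := hx
    rw [cellFun_eq X hS (h := h) ⟨hh, m, hm, a, ha, b' * b, mul_mem hb' hb, by group⟩,
      cellFun_eq X hS (h := h) ⟨hh, m, hm, a, ha, b', hb', rfl⟩]
  · push Not at hx
    rw [cellFun_of_not hx, cellFun_of_not fun h ⟨hh, m, hm, a, ha, b', hb', e⟩ => hx h
      ⟨hh, m, hm, a, ha, b' * b⁻¹, mul_mem hb' (inv_mem hb), by rw [← mul_inv_cancel_right x b, e]; group⟩]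

lemma cellFun_H {c : Γ} (hc : c ∈ R.H) (x : Γ) :
    cellFun l₀ lam S (c * x) = (lamx lam c)⁻¹ * cellFun l₀ lam S x := by
  by_cases hx : ∃ h, InW R l₀ S x h
  · obtain ⟨h, hh, m, hm, a, ha, b, hb, rfl⟩ := hx
    rw [cellFun_eq X hS (h := c * h) ⟨mul_mem hc hh, m, hm, c * a * c⁻¹, Upos_conj_H hc ha, b, hb, by group⟩,
      cellFun_eq X hS (h := h) ⟨hh, m, hm, a, ha, b, hb, rfl⟩, lamx_mul lam hc hh, mul_inv_rev, mul_comm]
  · push Not at hx
    rw [cellFun_of_not hx, mul_zero, cellFun_of_not fun h ⟨hh, m, hm, a, ha, b, hb, e⟩ => hx (c⁻¹ * h)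
      ⟨mul_mem (inv_mem hc) hh, m, hm, c⁻¹ * a * c, Upos_conj_H' hc ha, b, hb, by
        rw [← inv_mul_cancel_left c x, e]; group⟩]

omit hS in
/-- In the support, the roots outside `S` are inverted. -/
lemma not_pos_of_InW {l : List I} {h : Γ} (hx : InW R l₀ S (R.nw l) h) {i : I} (hi : i ∉ S) :
    ¬ R.pos (R.ww l.reverse (R.simple i)) := by
  obtain ⟨hh, m, hm, a, ha, b, hb, e⟩ := hx
  have h1 := R.mem_H_of_eq (n := R.nw (m ++ l₀)) (n' := R.nw l) (b₁ := a * h) (b₂ := b) (b₁' := 1) (b₂' := 1)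
    (R.nw_mem_N _) (R.nw_mem_N _)
    (mul_mem (R.Upos_le_B ha) (R.H_le_B hh)) (R.Upos_le_B hb) (one_mem _) (one_mem _)
    (by rw [e, R.nw_append]; group)
  set t := R.nw (m ++ l₀) * ((R.nw (m ++ l₀))⁻¹ * R.nw l) * (R.nw (m ++ l₀))⁻¹ with ht
  have e1 : R.nw l = t * R.nw (m ++ l₀) := by rw [ht]; group
  rw [pos_rev_congr (R.conj_H_mem (R.nw_mem_N _) h1) e1, List.reverse_append, R.ww_append]
  have hp' : R.pos (R.ww m.reverse (R.simple i)) :=
    X.supp i _ fun hmem => hi (hm i (List.mem_reverse.1 hmem))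
  intro hneg
  have h2 := X.long _ hneg
  rw [R.ww_ww_reverse] at h2
  exact h2 hp'

open Classical in
/-- The function is an eigenvector of every `tau`. -/
lemma tau_cellFun [CharP k p] {J : Set I} (hJ : ∀ i ∈ J, Triv lam (K i))
    (hSJ : S = {i | Triv lam (K i) ∧ i ∉ J}) (i : I) (x : Γ) :
    tau R (funRep Γ k) i (cellFun l₀ lam S) x = (if i ∈ J then -1 else 0) * cellFun l₀ lam S x := by
  set f := cellFun l₀ lam S with hf
  letI := Fintype.ofFinite (R.U (R.simple i))
  have hw : Wt R (funRep Γ k) lam f := by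
    refine ⟨fun u hu => funext fun y => cellFun_left X hS (inv_mem hu) y, fun c hc => funext fun y => ?_⟩
    rw [funRep_apply, hf, cellFun_H X hS (inv_mem hc), Pi.smul_apply, smul_eq_mul]
    rw [lamx_inv lam hc, inv_inv]
  have ht := hw.tau i
  have hfun : ∀ y, tau R (funRep Γ k) i f y = ∑ a : R.U (R.simple i), f (R.n i * (a : Γ)⁻¹ * y) := fun y => by
    rw [tau_eq, Finset.sum_apply]
    exact Finset.sum_congr rfl fun a _ => by rw [funRep_apply, mul_inv_rev, inv_inv]
  -- reduce to `x = nw l`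
  obtain ⟨b, hb, l, u, hu, rfl⟩ := R.exists_normalForm (g := x) (by rw [X.gen]; exact Subgroup.mem_top _)
  obtain ⟨v, hv, h, hh, rfl⟩ := R.exists_B hb
  have hu' := R.Uminus_le_Upos l hu
  have hright : tau R (funRep Γ k) i f (v * h * R.nw l * u) = tau R (funRep Γ k) i f (v * h * R.nw l) := by
    rw [hfun, hfun]
    exact Finset.sum_congr rfl fun a _ => by rw [hf, ← mul_assoc, cellFun_right X hS hu']
  have hleft : tau R (funRep Γ k) i f (v * h * R.nw l) =
      (lamx (conjChar i lam) h)⁻¹ * tau R (funRep Γ k) i f (R.nw l) := by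
    have h1 := congrFun (ht.fix v⁻¹ (inv_mem hv)) (h * R.nw l)
    rw [funRep_apply, inv_inv, ← mul_assoc] at h1
    have h2 := congrFun (ht.wt h⁻¹ (inv_mem hh)) (R.nw l)
    rw [funRep_apply, inv_inv, Pi.smul_apply, smul_eq_mul] at h2
    rw [h1, h2]
    rw [lamx_inv _ hh]
  rw [hright, hleft]
  conv_rhs =>
    rw [hf, mul_assoc v, mul_assoc v, cellFun_left X hS hv, cellFun_right X hS hu', cellFun_H X hS hh, ← hf]
  have core : tau R (funRep Γ k) i f (R.nw l) = (if i ∈ J then -1 else 0) * f (R.nw l) := by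
    have hiS : ∀ {l' : List I} {h' : Γ}, InW R l₀ S (R.nw l') h' → i ∉ S →
        ¬ R.pos (R.ww l'.reverse (R.simple i)) := fun hx hi => not_pos_of_InW X hx hi
    obtain ⟨c, hc, ec⟩ := R.exists_nw_inv l
    by_cases hpos : R.pos (R.ww l.reverse (R.simple i))
    · have hterm : ∀ a : R.U (R.simple i), f (R.n i * (a : Γ)⁻¹ * R.nw l) = f (R.n i * R.nw l) := fun a => by
        rw [show R.n i * (a : Γ)⁻¹ * R.nw l = R.n i * R.nw l * ((R.nw l)⁻¹ * (a : Γ)⁻¹ * R.nw l) by group]
        refine cellFun_right X hS ?_ _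
        have h1 := R.map_conj_H_nw hc l.reverse (R.simple i)
        rw [← ec] at h1
        exact R.U_le_Upos hpos (by simpa using R.conj_U_mem h1 (inv_mem a.2))
      rw [hfun, Finset.sum_congr rfl fun a _ => hterm a, Finset.sum_const, Finset.card_univ,
        ← Nat.card_eq_fintype_card, nsmul_eq_mul, (CharP.cast_eq_zero_iff k p _).2 (dvd_card_U X i), zero_mul,
        eq_comm]
      split_ifs with hiJ
      · rw [neg_one_mul, neg_eq_zero]
        exact cellFun_of_not fun h' hh' => hiS hh' (by rw [hSJ]; exact fun h => h.2 hiJ) hpos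
      · exact zero_mul _
    · have hterm : ∀ a : R.U (R.simple i), a ≠ 1 →
          f (R.n i * (a : Γ)⁻¹ * R.nw l) = lamx lam (eta X i a) * f (R.nw l) := by
        intro a ha
        obtain ⟨hη, y, hy, c', hc', e⟩ := eta_dec X a.2 fun h => ha (Subtype.ext h)
        have hy' : (R.nw l)⁻¹ * y⁻¹ * R.nw l ∈ R.Upos := by
          have h1 := R.map_conj_H_nw hc l.reverse (R.neg (R.simple i))
          rw [← ec, R.ww_neg] at h1
          exact R.U_le_Upos ((R.pos_neg _).2 hpos) (by simpa using R.conj_U_mem h1 (inv_mem hy))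
        rw [show R.n i * (a : Γ)⁻¹ = ((a : Γ) * (R.n i)⁻¹)⁻¹ by group, e,
          show (y * eta X i a * c')⁻¹ * R.nw l =
            c'⁻¹ * ((eta X i a)⁻¹ * (R.nw l * ((R.nw l)⁻¹ * y⁻¹ * R.nw l))) by group,
          hf, cellFun_left X hS (inv_mem (R.U_le_Upos (R.pos_simple i) hc')),
          cellFun_H X hS (inv_mem (X.K_le i hη)), cellFun_right X hS hy']
        rw [lamx_inv lam (X.K_le i hη), inv_inv]
      have hsum : sumEta X lam i = ∑ a : R.U (R.simple i), if a = 1 then 0 else lamx lam (eta X i a) := by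
        unfold sumEta
        exact Finset.sum_congr (by ext; simp) fun _ _ => rfl
      have hval : tau R (funRep Γ k) i f (R.nw l) = f (R.n i * R.nw l) + sumEta X lam i * f (R.nw l) := by
        rw [hsum, Finset.sum_mul, hfun]
        calc ∑ a : R.U (R.simple i), f (R.n i * (a : Γ)⁻¹ * R.nw l)
            = ∑ a : R.U (R.simple i), ((if a = 1 then f (R.n i * R.nw l) else 0) +
                (if a = 1 then 0 else lamx lam (eta X i a)) * f (R.nw l)) :=
              Finset.sum_congr rfl fun a _ => by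
                by_cases ha : a = 1
                · subst ha; simp
                · rw [if_neg ha, if_neg ha, zero_add, hterm a ha]
          _ = _ := by rw [Finset.sum_add_distrib, Finset.sum_ite_eq', if_pos (Finset.mem_univ _)]
      rw [hval, sumEta_eq X lam i]
      by_cases hi : i ∈ S
      · have hi' := hi
        rw [hSJ] at hi'
        obtain ⟨hti, hiJ⟩ := hi'
        rw [if_pos hti, if_neg hiJ, zero_mul, neg_one_mul, ← sub_eq_add_neg, sub_eq_zero]
        have hmv : ∀ {y h'}, InW R l₀ S y h' → f (R.n i * y) = f y := by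
          rintro y h' hy
          obtain ⟨hh', m, hm, a, ha, b', hb', e⟩ := hy
          obtain ⟨q, hq, x', hx', rfl⟩ := R.exists_Upos (i := i) ha
          have hb₀ := hb'
          rw [hf, cellFun_eq X hS (h := h') ⟨hh', m, hm, _, ha, b', hb', e⟩, e,
            show R.n i * (q * x' * h' * R.nw m * R.nw l₀ * b') =
              R.n i * q * (R.n i)⁻¹ * (R.n i * x' * h' * R.nw m * R.nw l₀ * b') by group,
            cellFun_left X hS (R.Udel_le_Upos i (R.n_conj_Udel i q hq)), cellFun_right X hS hb₀]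
          rw [show R.n i * x' * h' * R.nw m * R.nw l₀ =
            (R.n i * h' * (R.n i)⁻¹) * (R.n i * (h'⁻¹ * x' * h') * R.nw m * R.nw l₀) by group,
            cellFun_H X hS (R.n_conj_H i h' hh'), lamx_conj_n X lam hti hh']
          conv_rhs => rw [← mul_one (lamx lam h')⁻¹]
          congr 1
          -- `n i x m n₀` with `x` in `U i`
          set x'' := h'⁻¹ * x' * h'
          have hx'' : x'' ∈ R.U (R.simple i) := R.conj_H_U' hh' hx'
          by_cases hone : x'' = 1
          · rw [hone, mul_one, cellFun_eq X hS (h := 1) ⟨one_mem _, i :: m,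
              List.forall_mem_cons.2 ⟨hi, hm⟩, 1, one_mem _, 1, one_mem _, by rw [R.nw_cons]; group⟩,
              lamx_one, inv_one]
          · obtain ⟨hη, y', hy', c', hc', e'⟩ := eta_dec X (inv_mem hx'') (fun h => hone (inv_eq_one.1 h))
            have hg : R.n i * x'' = c'⁻¹ * ((eta X i x''⁻¹)⁻¹ * y'⁻¹) := by
              rw [show R.n i * x'' = (x''⁻¹ * (R.n i)⁻¹)⁻¹ by group, e']; group
            rw [hg]
            obtain ⟨c₁, hc₁, ec₁⟩ := R.exists_nw_inv (m ++ l₀)
            by_cases hm' : R.pos (R.ww (m ++ l₀).reverse (R.neg (R.simple i)))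
            · have hy'' : (R.nw (m ++ l₀))⁻¹ * y'⁻¹ * R.nw (m ++ l₀) ∈ R.Upos := by
                have h1 := R.map_conj_H_nw hc₁ (m ++ l₀).reverse (R.neg (R.simple i))
                rw [← ec₁] at h1
                exact R.U_le_Upos hm' (by simpa using R.conj_U_mem h1 (inv_mem hy'))
              rw [show c'⁻¹ * ((eta X i x''⁻¹)⁻¹ * y'⁻¹) * R.nw m * R.nw l₀ =
                c'⁻¹ * ((eta X i x''⁻¹)⁻¹ * (R.nw (m ++ l₀) * ((R.nw (m ++ l₀))⁻¹ * y'⁻¹ * R.nw (m ++ l₀)))) by
                  rw [R.nw_append]; group,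
                cellFun_left X hS (inv_mem (R.U_le_Upos (R.pos_simple i) hc')),
                cellFun_H X hS (inv_mem (X.K_le i hη)), cellFun_right X hS hy'', hti _ (inv_mem hη), inv_one,
                one_mul, cellFun_eq X hS (h := 1) ⟨one_mem _, m, hm, 1, one_mem _, 1, one_mem _, by
                  rw [R.nw_append]; group⟩, lamx_one, inv_one]
            · rw [← hg]
              rw [R.ww_neg, R.pos_neg, not_not] at hm'
              have hxc : (R.nw (m ++ l₀))⁻¹ * x'' * R.nw (m ++ l₀) ∈ R.Upos := by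
                have h1 := R.map_conj_H_nw hc₁ (m ++ l₀).reverse (R.simple i)
                rw [← ec₁] at h1
                exact R.U_le_Upos hm' (by simpa using R.conj_U_mem h1 hx'')
              rw [show R.n i * x'' * R.nw m * R.nw l₀ =
                R.n i * R.nw m * R.nw l₀ * ((R.nw (m ++ l₀))⁻¹ * x'' * R.nw (m ++ l₀)) by
                  rw [R.nw_append]; group,
                cellFun_right X hS hxc, cellFun_eq X hS (h := 1) ⟨one_mem _, i :: m,
                List.forall_mem_cons.2 ⟨hi, hm⟩, 1, one_mem _, 1, one_mem _, by rw [R.nw_cons]; group⟩,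
                lamx_one, inv_one]
        by_cases hx : ∃ h', InW R l₀ S (R.nw l) h'
        · exact hmv hx.choose_spec
        · push Not at hx
          rw [hf, cellFun_of_not hx]
          by_contra h0
          obtain ⟨h', hy⟩ : ∃ h', InW R l₀ S (R.n i * R.nw l) h' := by
            by_contra hn; push Not at hn; exact h0 (cellFun_of_not hn)
          have h3 := hmv hy
          rw [show R.n i * (R.n i * R.nw l) = R.n i * R.n i * R.nw l by group, hf,
            cellFun_H X hS (R.n_sq i), cellFun_of_not hx, mul_zero] at h3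
          exact h0 h3.symm
      · have h0 : f (R.n i * R.nw l) = 0 := cellFun_of_not fun h' hh' => hiS (l' := i :: l) hh' hi (by
          rw [List.reverse_cons, R.ww_append, R.ww_cons, R.ww_nil, R.w_simple, R.ww_neg, R.pos_neg]
          exact hpos)
        rw [h0, zero_add]
        rw [hSJ] at hi
        split_ifs with ht hiJ
        · rfl
        · exact absurd ⟨ht, hiJ⟩ hi
        · exact absurd (hJ i ‹_›) ht
        · rfl
  rw [core]
  by_cases hiJ : i ∈ J
  · rw [if_pos hiJ, lamx_conjChar i lam hh, lamx_conj_n X lam (hJ i hiJ) hh]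
    ring
  · rw [if_neg hiJ, zero_mul, zero_mul, mul_zero]

omit hS in
/-- A simple representation with given admissible data. -/
theorem exists_irr [CharP k p] (lam : R.H →* kˣ) {J : Set I} (hJ : ∀ i ∈ J, Triv lam (K i)) :
    ∃ (n : ℕ) (ρ : Representation k Γ (Fin n → k)) (v : Fin n → k),
      ρ.IsIrreducible ∧ v ≠ 0 ∧ Eig R ρ lam J v := by
  classical
  set S : Set I := {i | Triv lam (K i) ∧ i ∉ J} with hS_def
  have hS : ∀ i ∈ S, Triv lam (K i) := fun i hi => hi.1
  let f : Γ → k := cellFun l₀ lam S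
  have hf1 : f (R.nw l₀) = 1 := by
    show cellFun l₀ lam S (R.nw l₀) = 1
    rw [cellFun_eq X hS (h := 1) ⟨one_mem _, [], by simp, 1, one_mem _, 1, one_mem _, by simp⟩, lamx_one,
      inv_one]
  have hf : f ≠ 0 := fun e => one_ne_zero (hf1.symm.trans (congrFun e _))
  have he : Eig R (funRep Γ k) lam J f := by
    refine ⟨⟨fun u hu => funext fun y => cellFun_left X hS (inv_mem hu) y, fun c hc => funext fun y => ?_⟩,
      fun i hi => funext fun y => ?_, fun i hi => funext fun y => ?_⟩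
    · rw [funRep_apply, Pi.smul_apply, smul_eq_mul, show f (c⁻¹ * y) = (lamx lam c⁻¹)⁻¹ * f y from
        cellFun_H X hS (inv_mem hc) y]
      rw [lamx_inv lam hc, inv_inv]
    · rw [show tau R (funRep Γ k) i f y = _ from tau_cellFun X hS hJ hS_def i y, if_pos hi, Pi.neg_apply,
        neg_one_mul]
    · rw [show tau R (funRep Γ k) i f y = _ from tau_cellFun X hS hJ hS_def i y, if_neg hi, Pi.zero_apply,
        zero_mul]
  obtain ⟨M, hM, N, hN, hirr, hfN, hf0⟩ := exists_irr_image (funRep Γ k) f hf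
  set q := (funRep Γ k).quotient M hM
  set τ := q.subrepresentation N hN
  have h1 : Eig R q lam J (M.mkQ f) := he.map M.mkQ fun g v => rfl
  have h2 : Eig R τ lam J ⟨M.mkQ f, hfN⟩ :=
    Eig.comap N.subtype (fun g v => rfl) N.injective_subtype h1
  let e := (Module.finBasis k N).equivFun
  let σ : Representation k Γ (Fin (Module.finrank k N) → k) := e.conjRingEquiv.toMonoidHom.comp τ
  have hσ : ∀ g v, e (τ g v) = σ g (e v) := fun g v => by
    show _ = e.conj (τ g) (e v)
    rw [LinearEquiv.conj_apply_apply, LinearEquiv.symm_apply_apply]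
  refine ⟨_, σ, e ⟨_, hfN⟩, Irr.isIrreducible ?_, fun h => hf0 ?_, h2.map e.toLinearMap hσ⟩
  · haveI := hirr.1
    refine ⟨e.symm.toEquiv.nontrivial, fun W hW => ?_⟩
    refine (hirr.2 (W.comap e.toLinearMap) fun g x hx => ?_).imp ?_ ?_
    · show e (τ g x) ∈ W
      rw [hσ]; exact hW g _ hx
    · intro h; rw [← Submodule.map_comap_eq_of_surjective e.surjective W, h, Submodule.map_bot]
    · intro h; rw [← Submodule.map_comap_eq_of_surjective e.surjective W, h, Submodule.map_top,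
        LinearMap.range_eq_top]; exact e.surjective
  · exact congrArg Subtype.val (e.map_eq_zero_iff.1 h)

end Cfsg.Agent.ChevSimple
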