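import Cfsg.Agent.Lib.ChevBlocks.Cell
import Cfsg.Agent.EqLemmas

/-!
# The axioms used to classify the simple modules in the defining characteristic

`Hyp R p l₀ K` : root group data generating `Γ` whose positive part is a `p`-group, with abelian torus of
order prime to `p`, long word `l₀` and rank one tori `K i`. Main: `sumEta_eq`, `lam_word`, `eta_dec`.
-/

set_option autoImplicit false
set_option linter.unusedSectionVars false
set_option linter.style.haveILetI false

namespace Cfsg.Agent.ChevSimple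

open Cfsg.Agent.RGD Cfsg.Agent.RGD.RootData

universe u v w

variable {Γ : Type*} [Group Γ] {Φ I : Type*}

/-- The hypotheses on root group data with rank one tori. -/
structure Hyp (R : RootData Γ Φ I) (p : ℕ) (l₀ : List I) (K : I → Subgroup Γ) : Prop where
  gen : R.G = ⊤
  pgroup : IsPGroup p R.Upos
  regH : ¬ p ∣ Nat.card R.H
  commH : ∀ h ∈ R.H, ∀ k ∈ R.H, h * k = k * h
  long : ∀ r, R.pos r → ¬ R.pos (R.ww l₀ r)
  opp : ∀ i, ∃ j, R.ww l₀ (R.simple j) = R.neg (R.simple i)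
  K_le : ∀ i, K i ≤ R.H
  rank : ∀ i, ∃ η : Γ → Γ,
    (∀ a ∈ R.U (R.simple i), a ≠ 1 → η a ∈ K i ∧
      ∃ y ∈ R.U (R.neg (R.simple i)), ∃ c ∈ R.U (R.simple i), a * (R.n i)⁻¹ = y * η a * c) ∧
    ∀ k ∈ K i, ∃ π : R.U (R.simple i) ≃ R.U (R.simple i), π 1 = 1 ∧
      ∀ a : R.U (R.simple i), a ≠ 1 → η (π a : Γ) = η (a : Γ) * k
  sq : ∀ i, R.n i * R.n i ∈ K i
  comm : ∀ i, ∀ h ∈ R.H, R.n i * h * (R.n i)⁻¹ * h⁻¹ ∈ K i
  supp : ∀ i m, i ∉ m → R.pos (R.ww m (R.simple i))
  conjn : ∀ i j u, R.ww u (R.simple j) = R.simple i →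
    R.nw u * R.n j * (R.nw u)⁻¹ * (R.n i)⁻¹ ∈ K i

variable {R : RootData Γ Φ I}

/-- Words congruent modulo `H` have inverses sending the same roots to positive roots. -/
lemma pos_rev_congr {l l' : List I} {h : Γ} (hh : h ∈ R.H) (e : R.nw l = h * R.nw l') (r : Φ) :
    R.pos (R.ww l.reverse r) ↔ R.pos (R.ww l'.reverse r) := by
  obtain ⟨a, ha, ea⟩ := R.exists_nw_inv l
  obtain ⟨b, hb, eb⟩ := R.exists_nw_inv l'
  refine R.pos_ww_congr (h := a⁻¹ * b * (R.nw l'.reverse * h⁻¹ * (R.nw l'.reverse)⁻¹))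
    (mul_mem (mul_mem (inv_mem ha) hb) (R.nw_conj_H _ (inv_mem hh))) ?_ r
  calc R.nw l.reverse = a⁻¹ * (R.nw l)⁻¹ := by rw [ea, inv_mul_cancel_left]
    _ = _ := by rw [e, mul_inv_rev, eb]; group

section lam

variable {k : Type*} [Field k] (lam : R.H →* kˣ)

open Classical in
/-- A character of `H` extended by zero. -/
noncomputable def lamx (g : Γ) : k := if h : g ∈ R.H then (lam ⟨g, h⟩ : k) else 0

lemma lamx_of_mem {g : Γ} (h : g ∈ R.H) : lamx lam g = (lam ⟨g, h⟩ : k) := dif_pos h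

lemma lamx_mul {g g' : Γ} (h : g ∈ R.H) (h' : g' ∈ R.H) :
    lamx lam (g * g') = lamx lam g * lamx lam g' := by
  rw [lamx_of_mem lam h, lamx_of_mem lam h', lamx_of_mem lam (mul_mem h h'), ← Units.val_mul, ← map_mul]
  rfl

lemma lamx_one : lamx lam (1 : Γ) = 1 := by
  rw [lamx_of_mem lam (one_mem _), show (⟨1, one_mem _⟩ : R.H) = 1 from rfl, map_one, Units.val_one]

lemma lamx_ne_zero {g : Γ} (h : g ∈ R.H) : lamx lam g ≠ 0 := by
  rw [lamx_of_mem lam h]; exact Units.ne_zero _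

lemma lamx_inv {g : Γ} (h : g ∈ R.H) : lamx lam g⁻¹ = (lamx lam g)⁻¹ :=
  eq_inv_of_mul_eq_one_left (by rw [← lamx_mul lam (inv_mem h) h, inv_mul_cancel, lamx_one])

/-- `lam` kills a subgroup of `H`. -/
def Triv (L : Subgroup Γ) : Prop := ∀ g ∈ L, lamx lam g = 1

end lam

variable {p : ℕ} [hp : Fact p.Prime] {l₀ : List I} {K : I → Subgroup Γ} (X : Hyp R p l₀ K)
include X

omit hp in
lemma opp_word {i : I} : ∃ j, R.ww (l₀ ++ [j]) (R.simple j) = R.simple i := by
  obtain ⟨j, hj⟩ := X.opp i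
  refine ⟨j, ?_⟩
  rw [R.ww_append, R.ww_cons, R.ww_nil, R.w_simple, R.ww_neg, hj, R.neg_neg]

/-- The torus part of `a n⁻¹`. -/
noncomputable def eta (i : I) : Γ → Γ := (X.rank i).choose

omit hp in
lemma eta_dec {i : I} {a : Γ} (ha : a ∈ R.U (R.simple i)) (h : a ≠ 1) :
    eta X i a ∈ K i ∧ ∃ y ∈ R.U (R.neg (R.simple i)), ∃ c ∈ R.U (R.simple i),
      a * (R.n i)⁻¹ = y * eta X i a * c :=
  (X.rank i).choose_spec.1 a ha h

lemma dvd_card_U [Finite Γ] (i : I) : p ∣ Nat.card (R.U (R.simple i)) := by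
  obtain ⟨n, hn⟩ := IsPGroup.iff_card.1 (X.pgroup.to_le (R.U_le_Upos (R.pos_simple i)))
  rcases Nat.eq_zero_or_pos n with rfl | hn0
  · exact absurd (Subgroup.card_eq_one.1 (by rw [hn, pow_zero])) (R.U_ne_bot _)
  · rw [hn]; exact dvd_pow_self p hn0.ne'

omit hp in
lemma two_le_card_U [Finite Γ] (i : I) : 2 ≤ Nat.card (R.U (R.simple i)) := by
  by_contra h
  have := Nat.card_pos (α := R.U (R.simple i))
  exact R.U_ne_bot (R.simple i) (Subgroup.card_eq_one.1 (show Nat.card (R.U (R.simple i)) = 1 by omega))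

section lam

variable {k : Type*} [Field k] (lam : R.H →* kˣ)

omit hp in
lemma lamx_conj_n {i : I} (ht : Triv lam (K i)) {h : Γ} (hh : h ∈ R.H) :
    lamx lam (R.n i * h * (R.n i)⁻¹) = lamx lam h := by
  rw [show R.n i * h * (R.n i)⁻¹ = R.n i * h * (R.n i)⁻¹ * h⁻¹ * h by group,
    lamx_mul lam (X.K_le i (X.comm i h hh)) hh, ht _ (X.comm i h hh), one_mul]

variable {S : Set I}

omit hp in
lemma lamx_conj_nw (hS : ∀ i ∈ S, Triv lam (K i)) :
    ∀ {l : List I}, (∀ a ∈ l, a ∈ S) → ∀ {h : Γ}, h ∈ R.H →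
      lamx lam (R.nw l * h * (R.nw l)⁻¹) = lamx lam h
  | [], _, h, _ => by simp
  | a :: l, hl, h, hh => by
    rw [R.nw_cons, show R.n a * R.nw l * h * (R.n a * R.nw l)⁻¹ =
        R.n a * (R.nw l * h * (R.nw l)⁻¹) * (R.n a)⁻¹ by group,
      lamx_conj_n X lam (hS a (hl a (List.mem_cons_self ..))) (R.nw_conj_H l hh),
      lamx_conj_nw hS (fun b hb => hl b (List.mem_cons_of_mem _ hb)) hh]

omit hp in
/-- A word in `S` lying in `H` is killed by a character trivial on the tori of `S`. -/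
lemma lam_word (hS : ∀ i ∈ S, Triv lam (K i)) {l : List I} (hl : ∀ a ∈ l, a ∈ S)
    (h : R.nw l ∈ R.H) : lamx lam (R.nw l) = 1 := by
  induction hn : l.length using Nat.strong_induction_on generalizing l with
  | _ q ih =>
    rcases List.eq_nil_or_concat' l with rfl | ⟨l, j, rfl⟩
    · exact lamx_one lam
    have h1 := (R.mem_H_iff _).1 h _ (R.pos_simple j)
    rw [ww_append, ww_cons, ww_nil, R.w_simple, R.ww_neg, R.pos_neg] at h1
    obtain ⟨c, i, u, rfl, hu⟩ := R.crossing l (R.pos_simple j) h1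
    have hi : i ∈ S := hl i (by simp)
    have hc : ∀ a ∈ c, a ∈ S := fun a ha => hl a (by simp [ha])
    set κ := R.nw u * R.n j * (R.nw u)⁻¹ * (R.n i)⁻¹ with hκ
    have hκK : κ ∈ K i := X.conjn i j u hu
    set x := R.n i * κ * (R.n i)⁻¹ * (R.n i * R.n i) with hx
    have hxH : x ∈ R.H := mul_mem (R.n_conj_H i κ (X.K_le i hκK)) (R.n_sq i)
    have hxl : lamx lam x = 1 := by
      rw [hx, lamx_mul lam (R.n_conj_H i κ (X.K_le i hκK)) (R.n_sq i),
        lamx_conj_n X lam (hS i hi) (X.K_le i hκK), hS i hi _ hκK, hS i hi _ (X.sq i), one_mul]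
    have e : R.nw (c ++ i :: u ++ [j]) = R.nw c * x * (R.nw c)⁻¹ * R.nw (c ++ u) := by
      simp only [R.nw_append, R.nw_cons, R.nw_nil, mul_one, hx, hκ]
      group
    have ht : R.nw c * x * (R.nw c)⁻¹ ∈ R.H := R.nw_conj_H c hxH
    have h2 : R.nw (c ++ u) ∈ R.H := by
      have := mul_mem (inv_mem ht) h
      rwa [e, inv_mul_cancel_left] at this
    rw [e, lamx_mul lam ht h2, lamx_conj_nw X lam hS hc hxH, hxl, one_mul]
    refine ih (c ++ u).length (by subst hn; simp) (fun a ha => hl a ?_) h2 rfl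
    simp only [List.mem_append, List.mem_cons] at ha ⊢
    tauto

open Classical in
/-- The sum of the values of `lam` at the torus parts. -/
noncomputable def sumEta [Finite Γ] (i : I) : k :=
  have := Fintype.ofFinite (R.U (R.simple i))
  ∑ a : R.U (R.simple i), if a = 1 then 0 else lamx lam (eta X i a)

open Classical in
lemma sumEta_eq [Finite Γ] [CharP k p] (i : I) :
    sumEta X lam i = if Triv lam (K i) then -1 else 0 := by
  classical
  letI := Fintype.ofFinite (R.U (R.simple i))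
  have hS : sumEta X lam i =
      ∑ a : R.U (R.simple i), if a = 1 then 0 else lamx lam (eta X i a) := by
    unfold sumEta
    exact Finset.sum_congr (by ext; simp) fun _ _ => rfl
  split_ifs with ht
  · rw [hS, show (∑ a : R.U (R.simple i), if a = 1 then 0 else lamx lam (eta X i a)) =
        ∑ a : R.U (R.simple i), ((1 : k) - if a = 1 then 1 else 0) from
      Finset.sum_congr rfl fun a _ => by
        split_ifs with ha
        · rw [sub_self]
        · rw [sub_zero, ht _ (eta_dec X a.2 fun e => ha (Subtype.ext e)).1],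
      Finset.sum_sub_distrib, Finset.sum_const, Finset.card_univ, nsmul_one, Finset.sum_ite_eq',
      if_pos (Finset.mem_univ _), ← Nat.card_eq_fintype_card,
      (CharP.cast_eq_zero_iff k p _).2 (dvd_card_U X i), zero_sub]
  · simp only [Triv, not_forall] at ht
    obtain ⟨g, hg, hne⟩ := ht
    obtain ⟨π, hπ1, hπ⟩ := (X.rank i).choose_spec.2 g hg
    have h2 : sumEta X lam i * lamx lam g = sumEta X lam i := by
      rw [hS, Finset.sum_mul]
      refine Fintype.sum_equiv π _ _ fun a => ?_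
      by_cases ha : a = 1
      · rw [if_pos ha, ha, hπ1, if_pos rfl, zero_mul]
      · have hne' : π a ≠ 1 := fun e => ha (π.injective (e.trans hπ1.symm))
        rw [if_neg ha, if_neg hne', ← lamx_mul lam (X.K_le i (eta_dec X a.2 fun e => ha (Subtype.ext e)).1)
          (X.K_le i hg)]
        exact congrArg (lamx lam) (hπ a ha).symm
    by_contra h0
    exact hne ((mul_right_eq_self₀.1 h2).resolve_right h0)

end lam

end Cfsg.Agent.ChevSimple
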