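import Cfsg.Agent.EqLemmas
import Cfsg.Agent.Lib.RGD.NormalForm

/-!
# Root group data inside the subgroup they generate

`restrict R L hU hH hn` : the root group data seen in a subgroup `L` containing all of it, with
`restrict_span`, `restrict_G_eq_top`, `coe_nw`.
-/

set_option autoImplicit false

namespace Cfsg.Agent.ChevSimple

open Cfsg.Agent.RGD Cfsg.Agent.RGD.RootData

lemma map_subgroupOf {Γ : Type*} [Group Γ] {A L : Subgroup Γ} (h : A ≤ L) :
    (A.subgroupOf L).map L.subtype = A := by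
  rw [Subgroup.subgroupOf_map_subtype, inf_of_le_left h]

variable {Γ : Type*} [Group Γ] {Φ I : Type*} (R : RootData Γ Φ I) (L : Subgroup Γ)
  (hU : ∀ r, R.U r ≤ L) (hH : R.H ≤ L) (hn : ∀ i, R.n i ∈ L)

include hU in
lemma map_biSup (A : Set Φ) :
    (⨆ s ∈ A, (R.U s).subgroupOf L).map L.subtype = ⨆ s ∈ A, R.U s := by
  simp only [Subgroup.map_iSup, map_subgroupOf (hU _)]

include hU in
lemma mem_biSup (A : Set Φ) {x : L} :
    x ∈ (⨆ s ∈ A, (R.U s).subgroupOf L) ↔ (x : Γ) ∈ ⨆ s ∈ A, R.U s := by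
  rw [← map_biSup R L hU A]
  exact (Subgroup.mem_map_iff_mem L.subtype_injective).symm

/-- The root group data in `L`. -/
def restrict : RootData L Φ I where
  U r := (R.U r).subgroupOf L
  H := R.H.subgroupOf L
  n i := ⟨R.n i, hn i⟩
  simple := R.simple
  pos := R.pos
  neg := R.neg
  w := R.w
  neg_neg := R.neg_neg
  pos_neg := R.pos_neg
  pos_simple := R.pos_simple
  simple_inj := R.simple_inj
  w_simple := R.w_simple
  w_pos := R.w_pos
  w_neg := R.w_neg
  w_w := R.w_w
  H_conj_U h hh r x hx := R.H_conj_U _ hh r _ hx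
  n_conj_U i r x hx := R.n_conj_U i r _ hx
  n_conj_H i h hh := R.n_conj_H i _ hh
  n_sq i := R.n_sq i
  n_mem i := by
    rw [← Subgroup.subgroupOf_sup (hU _) (hU _),
      ← Subgroup.subgroupOf_sup (sup_le (hU _) (hU _)) hH]
    exact R.n_mem i
  U_conj i x hx r hr hne y hy := (mem_biSup R L hU _).2 (R.U_conj i _ hx r hr hne _ hy)
  rank_one i y hy hy1 := by
    obtain ⟨a, ha, h, hh, c, hc, e⟩ := R.rank_one i _ hy fun e => hy1 (Subtype.ext e)
    exact ⟨⟨a, hU _ ha⟩, ha, ⟨h, hH hh⟩, hh, ⟨c, hU _ hc⟩, hc, Subtype.ext e⟩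
  U_ne_bot r e := R.U_ne_bot r (by rw [← map_subgroupOf (hU r), e, Subgroup.map_bot])
  B_inf_V := by
    rw [eq_bot_iff]
    intro x hx
    refine Subgroup.mem_bot.2 (Subtype.ext ?_)
    refine Subgroup.mem_bot.1 (R.B_inf_V.le ⟨?_, (mem_biSup R L hU _).1 hx.2⟩)
    have h1 := Subgroup.mem_map_of_mem L.subtype hx.1
    rw [Subgroup.map_sup, map_biSup R L hU, map_subgroupOf hH] at h1
    exact h1
  U_inf_H := by
    rw [eq_bot_iff]
    intro x hx
    exact Subgroup.mem_bot.2 (Subtype.ext (Subgroup.mem_bot.1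
      (R.U_inf_H.le ⟨(mem_biSup R L hU _).1 hx.1, hx.2⟩)))

lemma coe_nw (l : List I) : (((restrict R L hU hH hn).nw l : L) : Γ) = R.nw l := by
  induction l with
  | nil => rfl
  | cons i l ih => rw [nw_cons, nw_cons, Subgroup.coe_mul, ih]; rfl

lemma ww_restrict (l : List I) (r : Φ) : (restrict R L hU hH hn).ww l r = R.ww l r := rfl

lemma map_Upos : (restrict R L hU hH hn).Upos.map L.subtype = R.Upos := map_biSup R L hU _

lemma restrict_G_eq_top (hG : R.G = L) : (restrict R L hU hH hn).G = ⊤ := by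
  refine Subgroup.map_injective L.subtype_injective ?_
  rw [← MonoidHom.range_eq_map, Subgroup.range_subtype]
  refine Eq.trans ?_ hG
  simp only [RootData.G, RootData.B, RootData.N, Subgroup.map_sup, map_Upos, MonoidHom.map_closure]
  rw [show (restrict R L hU hH hn).H.map L.subtype = R.H from map_subgroupOf hH, ← Set.range_comp]
  rfl

end Cfsg.Agent.ChevSimple
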